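import Cfsg.Agent.Lib.Classical.OrthPOmega

/-!
# Recognising `PΩ` as a central quotient of a given group
-/

set_option autoImplicit false
set_option linter.unusedSectionVars false

namespace CfsgLib.Classical.LowRank

open CfsgLib.Orth
open scoped commutatorElement

/-- A perfect group modulo its centre has trivial centre. -/
theorem center_quot_perfect {S : Type*} [Group S] (hp : commutator S = ⊤) :
    Subgroup.center (S ⧸ Subgroup.center S) = ⊥ := by
  rw [Subgroup.eq_bot_iff_forall]
  intro x hx
  obtain ⟨s, rfl⟩ := QuotientGroup.mk_surjective x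
  have hz : ∀ h : S, ⁅s, h⁆ ∈ Subgroup.center S := fun h => by
    rw [← QuotientGroup.eq_one_iff, ← QuotientGroup.mk'_apply, map_commutatorElement,
      commutatorElement_eq_one_iff_mul_comm]
    exact ((Subgroup.mem_center_iff.1 hx) _).symm
  let θ : S →* ↥(Subgroup.center S) := MonoidHom.mk' (fun h => ⟨⁅s, h⁆, hz h⟩) fun a b => Subtype.ext (by
    show ⁅s, a * b⁆ = ⁅s, a⁆ * ⁅s, b⁆
    have h1 := Subgroup.mem_center_iff.1 (hz b) a
    rw [show ⁅s, a * b⁆ = ⁅s, a⁆ * (a * ⁅s, b⁆ * a⁻¹) by simp only [commutatorElement_def]; group, h1,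
      mul_inv_cancel_right])
  have hθ : commutator S ≤ θ.ker := by
    rw [commutator_def, Subgroup.commutator_le]
    intro a _ b _
    rw [MonoidHom.mem_ker, map_commutatorElement, commutatorElement_eq_one_iff_mul_comm]
    exact (Subgroup.mem_center_iff.1 (θ b).2 _ |> fun h => Subtype.ext h)
  rw [hp] at hθ
  rw [QuotientGroup.eq_one_iff, Subgroup.mem_center_iff]
  intro h
  have h1 : ⁅s, h⁆ = 1 := congrArg Subtype.val (hθ (Subgroup.mem_top h))
  exact (commutatorElement_eq_one_iff_mul_comm.1 h1).symm

variable {F : Type*} [Field F] {ι : Type} [Fintype ι] [DecidableEq ι] {Qf : (ι → F) → F}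

/-- Images of perfect groups lie in `Ω`. -/
theorem mem_omega_of_perfect {S : Type*} [Group S] (hp : commutator S = ⊤)
    (ψ : S →* ↥(Cfsg.isometryGroup F Qf)) (s : S) : ψ s ∈ Cfsg.Omega F Qf := by
  have h : (commutator S).map ψ ≤ commutator ↥(Cfsg.isometryGroup F Qf) := by
    rw [commutator_def, commutator_def, Subgroup.map_commutator]
    exact Subgroup.commutator_mono le_top le_top
  exact h ⟨s, hp.symm ▸ Subgroup.mem_top s, rfl⟩

/-- `PΩ` is the central quotient of `S` once `S` covers `Ω` with central kernel. -/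
theorem pomega_iso {S : Type*} [Group S] [Finite S] [Finite F]
    (ψ : S →* ↥(Cfsg.isometryGroup F Qf)) (hΩ : ∀ s, ψ s ∈ Cfsg.Omega F Qf)
    (hker : ψ.ker ≤ Subgroup.center S) (hcent : Subgroup.center (S ⧸ Subgroup.center S) = ⊥)
    (hcard : Nat.card ↥(Cfsg.Omega F Qf) * Nat.card ψ.ker = Nat.card S) :
    Nonempty (Cfsg.POmega F Qf ≃* S ⧸ Subgroup.center S) := by
  set f := ψ.codRestrict (Cfsg.Omega F Qf) hΩ with hf
  have hfk : f.ker = ψ.ker := by
    ext s
    rw [MonoidHom.mem_ker, MonoidHom.mem_ker]
    exact ⟨fun h => congrArg Subtype.val h, fun h => Subtype.ext h⟩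
  have hsurj : Function.Surjective f := by
    rw [← MonoidHom.range_eq_top]
    refine Subgroup.eq_top_of_card_eq _ ?_
    have h := Subgroup.card_eq_card_quotient_mul_card_subgroup f.ker
    rw [Nat.card_congr (QuotientGroup.quotientKerEquivRange f).toEquiv, hfk, ← hcard] at h
    exact (Nat.eq_of_mul_eq_mul_right Nat.card_pos h).symm
  set g := (QuotientGroup.mk' (Subgroup.center ↥(Cfsg.Omega F Qf))).comp f
  have hg : g.ker = Subgroup.center S := by
    ext s
    rw [MonoidHom.mem_ker, MonoidHom.comp_apply, QuotientGroup.mk'_apply, QuotientGroup.eq_one_iff]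
    constructor
    · intro hs
      have h1 : (s : S ⧸ Subgroup.center S) ∈ Subgroup.center (S ⧸ Subgroup.center S) := by
        rw [Subgroup.mem_center_iff]
        intro y
        obtain ⟨y, rfl⟩ := QuotientGroup.mk_surjective y
        rw [eq_comm, ← commutatorElement_eq_one_iff_mul_comm, ← QuotientGroup.mk'_apply, ← QuotientGroup.mk'_apply,
          ← map_commutatorElement, QuotientGroup.mk'_apply, QuotientGroup.eq_one_iff]
        refine hker ?_
        rw [← hfk, MonoidHom.mem_ker, map_commutatorElement, commutatorElement_eq_one_iff_mul_comm]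
        exact (Subgroup.mem_center_iff.1 hs _).symm
      rw [hcent, Subgroup.mem_bot, QuotientGroup.eq_one_iff] at h1
      exact h1
    · intro hs
      rw [Subgroup.mem_center_iff]
      intro y
      obtain ⟨t, rfl⟩ := hsurj y
      rw [← map_mul, ← map_mul, Subgroup.mem_center_iff.1 hs t]
  exact ⟨((QuotientGroup.quotientMulEquivOfEq hg).symm.trans
    (QuotientGroup.quotientKerEquivOfSurjective g ((QuotientGroup.mk'_surjective _).comp hsurj))).symm⟩

/-- The order of `Ω` from the index of the commutator subgroup. -/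
theorem card_omega_mul (Q : QuadraticForm F (ι → F)) (hQf : ∀ v, Qf v = Q v) :
    Nat.card ↥(Cfsg.Omega F Qf) * (commutator (orthGroup Q)).index = Nat.card (orthGroup Q) := by
  rw [Nat.card_congr (omegaEquiv Q hQf).toEquiv, Subgroup.card_mul_index]

end CfsgLib.Classical.LowRank
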