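import Cfsg.Agent.Lib.Classical.LowRank.Six
import Cfsg.Agent.Lib.Classical.SympMatrixSimple
import Cfsg.Agent.Lib.Classical.SympCount

/-!
# The stabiliser of a vector in the Klein correspondence: `PΩ₅(q) ≅ PSp₄(q)`
-/

set_option autoImplicit false
set_option linter.unusedSectionVars false
set_option linter.unusedSimpArgs false
set_option backward.isDefEq.respectTransparency false

namespace CfsgLib.Classical.LowRank

open Matrix CfsgLib.Orth

variable {F : Type*} [Field F] [Fintype F]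

/-- The vector of the Klein quadric space corresponding to the symplectic form. -/
def omega5 : Fin 3 ⊕ Fin 3 → F := Sum.elim ![0, -1, 0] ![0, 1, 0]

/-- The orthogonal complement of `omega5` in coordinates. -/
def emb5 (v : Unit ⊕ (Fin 2 ⊕ Fin 2) → F) : Fin 3 ⊕ Fin 3 → F :=
  Sum.elim ![v (.inr (.inl 0)), v (.inl ()), v (.inr (.inl 1))]
    ![v (.inr (.inr 0)), v (.inl ()), v (.inr (.inr 1))]

/-- Coordinates on the orthogonal complement. -/
def proj5 (w : Fin 3 ⊕ Fin 3 → F) : Unit ⊕ (Fin 2 ⊕ Fin 2) → F :=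
  Sum.elim (fun _ => w (.inl 1)) (Sum.elim ![w (.inl 0), w (.inl 2)] ![w (.inr 0), w (.inr 2)])

theorem proj5_emb5 (v : Unit ⊕ (Fin 2 ⊕ Fin 2) → F) : proj5 (emb5 v) = v := by
  funext i
  rcases i with ⟨⟩ | i | i
  · simp [proj5, emb5]
  all_goals fin_cases i <;> simp [proj5, emb5]

theorem emb5_proj5 {w : Fin 3 ⊕ Fin 3 → F} (h : w (.inr 1) = w (.inl 1)) : emb5 (proj5 w) = w := by
  funext i
  rcases i with i | i <;> fin_cases i <;> simp [proj5, emb5, h]

theorem quad_emb5 (v : Unit ⊕ (Fin 2 ⊕ Fin 2) → F) :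
    Cfsg.quadFormPlus 3 F (emb5 v) = Cfsg.quadFormOdd 2 F v := by
  simp [Cfsg.quadFormPlus, Cfsg.quadFormOdd, emb5, Fin.sum_univ_three, Fin.sum_univ_two]
  ring

/-- The symplectic group inside `SL₄`. -/
noncomputable def sp4ToSL (hp : commutator (Matrix.symplecticGroup (Fin 2) F) = ⊤) :
    Matrix.symplecticGroup (Fin 2) F →* SpecialLinearGroup (Fin 4) F where
  toFun g := ⟨Matrix.reindex finSumFinEquiv finSumFinEquiv (g : Matrix (Fin 2 ⊕ Fin 2) (Fin 2 ⊕ Fin 2) F), by
    rw [Matrix.det_reindex_self]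
    let d : Matrix.symplecticGroup (Fin 2) F →* Fˣ :=
      ((Units.map (Matrix.detMonoidHom : Matrix (Fin 2 ⊕ Fin 2) (Fin 2 ⊕ Fin 2) F →* F)).comp
        ((Matrix.symplecticGroup (Fin 2) F).subtype.toHomUnits))
    have hd : g ∈ d.ker := by
      have hle := Abelianization.commutator_subset_ker d
      exact hle (hp.symm ▸ Subgroup.mem_top g)
    exact congrArg Units.val hd⟩
  map_one' := by
    refine Subtype.ext ?_
    show Matrix.reindex finSumFinEquiv finSumFinEquiv (1 : Matrix (Fin 2 ⊕ Fin 2) (Fin 2 ⊕ Fin 2) F) = 1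
    simp
  map_mul' g h := by
    refine Subtype.ext ?_
    show Matrix.reindex finSumFinEquiv finSumFinEquiv
      ((g : Matrix (Fin 2 ⊕ Fin 2) (Fin 2 ⊕ Fin 2) F) * (h : Matrix (Fin 2 ⊕ Fin 2) (Fin 2 ⊕ Fin 2) F)) =
      Matrix.reindex finSumFinEquiv finSumFinEquiv (g : Matrix (Fin 2 ⊕ Fin 2) (Fin 2 ⊕ Fin 2) F) *
      Matrix.reindex finSumFinEquiv finSumFinEquiv (h : Matrix (Fin 2 ⊕ Fin 2) (Fin 2 ⊕ Fin 2) F)
    simp [Matrix.submatrix_mul_equiv]

theorem sp4ToSL_injective (hp : commutator (Matrix.symplecticGroup (Fin 2) F) = ⊤) :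
    Function.Injective (sp4ToSL hp) := fun a b h =>
  Subtype.ext ((Matrix.reindex (finSumFinEquiv : Fin 2 ⊕ Fin 2 ≃ Fin 4) finSumFinEquiv).injective
    (congrArg Subtype.val h))

theorem altMat_omega5 :
    altMat (omega5 (F := F)) = Matrix.reindex (finSumFinEquiv : Fin 2 ⊕ Fin 2 ≃ Fin 4) finSumFinEquiv
      (Matrix.J (Fin 2) F) := by
  ext i j
  fin_cases i <;> fin_cases j <;>
    simp [altMat, omega5, Matrix.J, finSumFinEquiv, Fin.addCases, Matrix.fromBlocks, Matrix.submatrix_apply,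
      Matrix.one_apply, Fin.castAdd, Fin.natAdd, Fin.castLE, Fin.ext_iff]

theorem klein_omega5 (hp : commutator (Matrix.symplecticGroup (Fin 2) F) = ⊤)
    (g : Matrix.symplecticGroup (Fin 2) F) :
    klein ((sp4ToSL hp g : SpecialLinearGroup (Fin 4) F) : Matrix (Fin 4) (Fin 4) F) omega5 = omega5 := by
  show altRead _ = _
  conv_rhs => rw [← altRead_altMat (omega5 (F := F))]
  congr 1
  rw [altMat_omega5]
  have h := SymplecticGroup.mem_iff.1 g.2
  show Matrix.reindex finSumFinEquiv finSumFinEquiv (g : Matrix (Fin 2 ⊕ Fin 2) (Fin 2 ⊕ Fin 2) F) * _ *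
    (Matrix.reindex finSumFinEquiv finSumFinEquiv (g : Matrix (Fin 2 ⊕ Fin 2) (Fin 2 ⊕ Fin 2) F))ᵀ = _
  simp only [Matrix.reindex_apply, Matrix.transpose_submatrix, Matrix.submatrix_mul_equiv, h]

theorem polar_omega5 (w : Fin 3 ⊕ Fin 3 → F) :
    Cfsg.quadFormPlus 3 F (omega5 + w) - Cfsg.quadFormPlus 3 F omega5 - Cfsg.quadFormPlus 3 F w =
      w (.inl 1) - w (.inr 1) := by
  simp [Cfsg.quadFormPlus, omega5, Fin.sum_univ_three]
  ring

theorem klein_perp5 (hp : commutator (Matrix.symplecticGroup (Fin 2) F) = ⊤)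
    (g : Matrix.symplecticGroup (Fin 2) F) (w : Fin 3 ⊕ Fin 3 → F) :
    (klein ((sp4ToSL hp g : SpecialLinearGroup (Fin 4) F) : Matrix (Fin 4) (Fin 4) F) w) (.inl 1) -
      (klein ((sp4ToSL hp g : SpecialLinearGroup (Fin 4) F) : Matrix (Fin 4) (Fin 4) F) w) (.inr 1) =
      w (.inl 1) - w (.inr 1) := by
  set k := klein ((sp4ToSL hp g : SpecialLinearGroup (Fin 4) F) : Matrix (Fin 4) (Fin 4) F) with hk
  have hq : ∀ x, Cfsg.quadFormPlus 3 F (k x) = Cfsg.quadFormPlus 3 F x := fun x => by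
    show Cfsg.quadFormPlus 3 F (altRead _) = _
    rw [altRead_quad, show ((sp4ToSL hp g : SpecialLinearGroup (Fin 4) F) : Matrix (Fin 4) (Fin 4) F).det = 1 from
      (sp4ToSL hp g).2, one_mul]
  rw [← polar_omega5 (k w), ← polar_omega5 w]
  conv_lhs => rw [show (omega5 : Fin 3 ⊕ Fin 3 → F) = k omega5 from (klein_omega5 hp g).symm]
  rw [← map_add, hq, hq, hq]

/-- The action on the complement. -/
noncomputable def klein5 (hp : commutator (Matrix.symplecticGroup (Fin 2) F) = ⊤)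
    (g : Matrix.symplecticGroup (Fin 2) F) : (Unit ⊕ (Fin 2 ⊕ Fin 2) → F) →ₗ[F] (Unit ⊕ (Fin 2 ⊕ Fin 2) → F) where
  toFun v := proj5 (klein ((sp4ToSL hp g : SpecialLinearGroup (Fin 4) F) : Matrix (Fin 4) (Fin 4) F) (emb5 v))
  map_add' u v := by
    rw [show emb5 (u + v) = emb5 u + emb5 v by
      funext i; rcases i with i | i <;> fin_cases i <;> simp [emb5], map_add]
    funext i
    rcases i with ⟨⟩ | i | i
    · simp [proj5]
    all_goals fin_cases i <;> simp [proj5]
  map_smul' c v := by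
    rw [show emb5 (c • v) = c • emb5 v by
      funext i; rcases i with i | i <;> fin_cases i <;> simp [emb5], map_smul]
    funext i
    rcases i with ⟨⟩ | i | i
    · simp [proj5]
    all_goals fin_cases i <;> simp [proj5]

theorem emb5_klein5 (hp : commutator (Matrix.symplecticGroup (Fin 2) F) = ⊤)
    (g : Matrix.symplecticGroup (Fin 2) F) (v : Unit ⊕ (Fin 2 ⊕ Fin 2) → F) :
    emb5 (klein5 hp g v) = klein ((sp4ToSL hp g : SpecialLinearGroup (Fin 4) F) : Matrix (Fin 4) (Fin 4) F) (emb5 v) := by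
  refine emb5_proj5 ?_
  have h := klein_perp5 hp g (emb5 v)
  rw [show emb5 v (.inl 1) - emb5 v (.inr 1) = 0 by simp [emb5]] at h
  exact (sub_eq_zero.1 h).symm

/-- `Sp₄` inside the five-dimensional isometry group. -/
noncomputable def klein5Hom (hp : commutator (Matrix.symplecticGroup (Fin 2) F) = ⊤) :
    Matrix.symplecticGroup (Fin 2) F →* ↥(Cfsg.isometryGroup F (Cfsg.quadFormOdd 2 F)) :=
  MonoidHom.codRestrict (MonoidHom.toHomUnits
    { toFun := fun g => LinearMap.toMatrix' (klein5 hp g)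
      map_one' := by
        rw [← LinearMap.toMatrix'_id]
        congr 1
        refine LinearMap.ext fun v => ?_
        show proj5 (klein ((sp4ToSL hp 1 : SpecialLinearGroup (Fin 4) F) : Matrix (Fin 4) (Fin 4) F) (emb5 v)) = v
        rw [map_one (sp4ToSL hp)]
        show proj5 (altRead ((1 : Matrix (Fin 4) (Fin 4) F) * altMat (emb5 v) * (1 : Matrix (Fin 4) (Fin 4) F)ᵀ)) = v
        rw [Matrix.transpose_one, mul_one, one_mul, altRead_altMat, proj5_emb5]
      map_mul' := fun g h => by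
        rw [← LinearMap.toMatrix'_comp]
        congr 1
        refine LinearMap.ext fun v => ?_
        show proj5 (klein ((sp4ToSL hp (g * h) : SpecialLinearGroup (Fin 4) F) : Matrix (Fin 4) (Fin 4) F) (emb5 v)) =
          proj5 (klein ((sp4ToSL hp g : SpecialLinearGroup (Fin 4) F) : Matrix (Fin 4) (Fin 4) F) (emb5 (klein5 hp h v)))
        rw [emb5_klein5, map_mul (sp4ToSL hp)]
        show _ = proj5 (altRead (((sp4ToSL hp g : SpecialLinearGroup (Fin 4) F) : Matrix (Fin 4) (Fin 4) F) * altMat (altRead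
          (((sp4ToSL hp h : SpecialLinearGroup (Fin 4) F) : Matrix (Fin 4) (Fin 4) F) * altMat (emb5 v) *
            ((sp4ToSL hp h : SpecialLinearGroup (Fin 4) F) : Matrix (Fin 4) (Fin 4) F)ᵀ)) *
          ((sp4ToSL hp g : SpecialLinearGroup (Fin 4) F) : Matrix (Fin 4) (Fin 4) F)ᵀ))
        rw [altMat_congr]
        show proj5 (altRead (((sp4ToSL hp g : SpecialLinearGroup (Fin 4) F) : Matrix (Fin 4) (Fin 4) F) *
          ((sp4ToSL hp h : SpecialLinearGroup (Fin 4) F) : Matrix (Fin 4) (Fin 4) F) * altMat (emb5 v) *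
          (((sp4ToSL hp g : SpecialLinearGroup (Fin 4) F) : Matrix (Fin 4) (Fin 4) F) *
          ((sp4ToSL hp h : SpecialLinearGroup (Fin 4) F) : Matrix (Fin 4) (Fin 4) F))ᵀ)) = _
        rw [Matrix.transpose_mul]
        simp only [mul_assoc] })
    (Cfsg.isometryGroup F (Cfsg.quadFormOdd 2 F))
    fun g => show ∀ u _v, _ from fun u _ => by
      show Cfsg.quadFormOdd 2 F (LinearMap.toMatrix' (klein5 hp g) *ᵥ u) = _
      rw [LinearMap.toMatrix'_mulVec, ← quad_emb5, emb5_klein5]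
      show Cfsg.quadFormPlus 3 F (altRead _) = _
      rw [altRead_quad, show ((sp4ToSL hp g : SpecialLinearGroup (Fin 4) F) : Matrix (Fin 4) (Fin 4) F).det = 1 from
        (sp4ToSL hp g).2, one_mul, quad_emb5]

theorem mem_ker_klein5_iff (h2 : (2 : F) ≠ 0) (hp : commutator (Matrix.symplecticGroup (Fin 2) F) = ⊤)
    (g : Matrix.symplecticGroup (Fin 2) F) :
    g ∈ (klein5Hom hp).ker ↔ sp4ToSL hp g ∈ (kleinHom (F := F)).ker := by
  constructor
  · intro hg
    have h1 : ∀ v, klein5 hp g v = v := fun v => by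
      have h : LinearMap.toMatrix' (klein5 hp g) = 1 :=
        congrArg (fun x : ↥(Cfsg.isometryGroup F (Cfsg.quadFormOdd 2 F)) =>
          ((x : GL (Unit ⊕ (Fin 2 ⊕ Fin 2)) F) : Matrix (Unit ⊕ (Fin 2 ⊕ Fin 2)) (Unit ⊕ (Fin 2 ⊕ Fin 2)) F)) hg
      have h' := congrArg (· *ᵥ v) h
      simp only [LinearMap.toMatrix'_mulVec, Matrix.one_mulVec] at h'
      exact h'
    refine Subtype.ext (Units.ext ?_)
    show LinearMap.toMatrix' (klein _) = 1
    rw [← LinearMap.toMatrix'_id]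
    congr 1
    refine LinearMap.ext fun w => ?_
    set r := (w (.inl 1) - w (.inr 1)) / 2 with hr
    have hw : w = emb5 (proj5 (w + r • omega5)) + (-r) • omega5 := by
      rw [emb5_proj5]
      · module
      · simp [omega5, hr]
        field_simp
        ring
    conv_lhs => rw [hw, map_add, map_smul, klein_omega5, ← emb5_klein5, h1]
    exact hw.symm
  · intro hg
    refine Subtype.ext (Units.ext ?_)
    show LinearMap.toMatrix' (klein5 hp g) = 1
    rw [← LinearMap.toMatrix'_id]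
    congr 1
    refine LinearMap.ext fun v => ?_
    have h : LinearMap.toMatrix' (klein ((sp4ToSL hp g : SpecialLinearGroup (Fin 4) F) : Matrix (Fin 4) (Fin 4) F)) = 1 :=
      congrArg (fun x : ↥(Cfsg.isometryGroup F (Cfsg.quadFormPlus 3 F)) =>
        ((x : GL (Fin 3 ⊕ Fin 3) F) : Matrix (Fin 3 ⊕ Fin 3) (Fin 3 ⊕ Fin 3) F)) hg
    have h' := congrArg (· *ᵥ emb5 v) h
    simp only [LinearMap.toMatrix'_mulVec, Matrix.one_mulVec] at h'
    show proj5 _ = v
    rw [h', proj5_emb5]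

theorem card_ker_klein5 (h2 : (2 : F) ≠ 0) (hp : commutator (Matrix.symplecticGroup (Fin 2) F) = ⊤) :
    Nat.card (klein5Hom hp).ker = 2 := by
  classical
  have hk : (klein5Hom hp).ker = (kleinHom (F := F)).ker.comap (sp4ToSL hp) :=
    Subgroup.ext fun g => mem_ker_klein5_iff h2 hp g
  rw [hk, Nat.card_congr (Equiv.ofBijective
    (fun x : ↥((kleinHom (F := F)).ker.comap (sp4ToSL hp)) => (⟨sp4ToSL hp x.1, x.2⟩ : (kleinHom (F := F)).ker))
    ⟨fun a b h => Subtype.ext (sp4ToSL_injective hp (congrArg Subtype.val h)), fun y => ?_⟩)]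
  · have h := card_sqrt_one (F := F)
    rw [← card_ker_kleinHom, if_neg h2] at h
    omega
  · obtain ⟨c, hc, hy⟩ := (mem_ker_kleinHom_iff y.1).1 y.2
    have hmem : c • (1 : Matrix (Fin 2 ⊕ Fin 2) (Fin 2 ⊕ Fin 2) F) ∈ Matrix.symplecticGroup (Fin 2) F := by
      rw [SymplecticGroup.mem_iff, Matrix.transpose_smul, Matrix.transpose_one, Matrix.smul_mul, Matrix.mul_smul,
        one_mul, mul_one, smul_smul, show c * c = 1 by linear_combination hc, one_smul]
    have he : sp4ToSL hp ⟨_, hmem⟩ = y.1 := by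
      refine Subtype.ext ?_
      rw [hy]
      show Matrix.reindex finSumFinEquiv finSumFinEquiv (c • (1 : Matrix (Fin 2 ⊕ Fin 2) (Fin 2 ⊕ Fin 2) F)) = _
      simp [Matrix.submatrix_smul]
    exact ⟨⟨⟨_, hmem⟩, by rw [Subgroup.mem_comap, he]; exact y.2⟩, Subtype.ext he⟩

theorem ker_klein5_le (h2 : (2 : F) ≠ 0) (hp : commutator (Matrix.symplecticGroup (Fin 2) F) = ⊤) :
    (klein5Hom hp).ker ≤ Subgroup.center (Matrix.symplecticGroup (Fin 2) F) := by
  intro g hg
  have hz := ker_kleinHom_le ((mem_ker_klein5_iff h2 hp g).1 hg)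
  rw [Subgroup.mem_center_iff] at hz ⊢
  intro x
  exact sp4ToSL_injective hp (by rw [map_mul, map_mul, hz])

/-- `PΩ₅(q) ≅ PSp₄(q)` for odd `q`. -/
theorem pomega_five (h2 : (2 : F) ≠ 0) :
    Nonempty (Cfsg.POmega F (Cfsg.quadFormOdd 2 F) ≃* Cfsg.PSp 2 F) := by
  classical
  have hq : 3 ≤ Fintype.card F := by
    have h : ({0, 1, -1} : Finset F).card = 3 := by
      rw [Finset.card_insert_of_notMem, Finset.card_pair]
      · exact fun h => h2 (by linear_combination h)
      · simp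
    calc 3 = ({0, 1, -1} : Finset F).card := h.symm
      _ ≤ Fintype.card F := Finset.card_le_univ _
  have hp : commutator (Matrix.symplecticGroup (Fin 2) F) = ⊤ := sp_perfect 2 (Or.inr (Or.inl ⟨rfl, hq⟩))
  refine pomega_iso (klein5Hom hp) (mem_omega_of_perfect hp _) (ker_klein5_le h2 hp) (center_quot_perfect hp) ?_
  have h := card_omega_mul (Qf := Cfsg.quadFormOdd 2 F) (oddForm F 2) (oddForm_apply 2)
  rw [card_orth_odd rfl h2 2,
    index_commutator_odd (oddForm_nondeg 2 h2) h2 (by simp [Module.finrank_pi])] at h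
  rw [card_ker_klein5 h2 hp, Nat.card_congr (spEquiv (F := F) 2).toEquiv,
    card_isom_alt (sympBil_isAlt 2) (sympBil_nondegenerate 2) 2 (by simp [Module.finrank_pi])]
  rw [mul_assoc 2] at h
  generalize Fintype.card F ^ (2 ^ 2) * ∏ i ∈ Finset.range 2, (Fintype.card F ^ (2 * (i + 1)) - 1) = X at h ⊢
  omega

end CfsgLib.Classical.LowRank
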