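import Cfsg.Agent.Lib.Classical.LowRank.SLTwo
import Cfsg.Agent.Lib.Classical.OrthCount
import Cfsg.Agent.Lib.Classical.OrthApps
import Cfsg.Agent.Lib.KnownC.FieldExt

/-!
# `PΩ⁻₄(q) ≅ PSL₂(q²)`
-/

set_option autoImplicit false
set_option linter.unusedSectionVars false
set_option linter.unusedSimpArgs false
set_option backward.isDefEq.respectTransparency false

namespace CfsgLib.Classical.LowRank

open Matrix CfsgLib.Orth CfsgLib.KnownC
open scoped MatrixGroups commutatorElement

variable {F K : Type*} [Field F] [Fintype F] [Field K] [Fintype K]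

/-- Data describing `K` as the quadratic extension by a root of `X² - aX + b`. -/
structure QuadData (F K : Type*) [Field F] [Fintype F] [Field K] [Fintype K] [Algebra F K] (a b : F) where
  /-- the conjugation -/
  σ : K →+* K
  σσ : ∀ x, σ (σ x) = x
  σF : ∀ t, σ (algebraMap F K t) = algebraMap F K t
  σfix : ∀ x, σ x = x → x ∈ Set.range (algebraMap F K)
  /-- coordinates -/
  co : K ≃ₗ[F] (Fin 2 → F)
  co_alg : ∀ t, co (algebraMap F K t) = ![t, 0]
  norm : ∀ x, x * σ x = algebraMap F K (co x 0 ^ 2 + a * co x 0 * co x 1 + b * co x 1 ^ 2)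

theorem exists_quadData_frob [Algebra F K] {q : ℕ} (hF : Fintype.card F = q) (hK : Fintype.card K = q ^ 2) (a b : F)
    (hab : ∀ z₁ z₂ : F, z₁ ^ 2 + a * z₁ * z₂ + b * z₂ ^ 2 = 0 → z₁ = 0 ∧ z₂ = 0) :
    ∃ D : QuadData F K a b, ∀ x, D.σ x = x ^ q := by
  classical
  have hroot : ∀ r : F, r ^ 2 - a * r + b ≠ 0 := fun r h =>
    one_ne_zero (hab (-r) 1 (by linear_combination h)).2
  obtain ⟨ω, hω⟩ : ∃ ω : K, ω ^ 2 = algebraMap F K a * ω - algebraMap F K b := by
    let f : Polynomial F := Polynomial.X ^ 2 - Polynomial.C a * Polynomial.X + Polynomial.C b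
    have hdeg : f.natDegree = 2 := by simp only [f]; compute_degree!
    have hf0 : f ≠ 0 := fun h => by simp [h] at hdeg
    have hirr : Irreducible f := by
      rw [Polynomial.irreducible_iff_roots_eq_zero_of_degree_le_three (by omega) (by omega),
        Multiset.eq_zero_iff_forall_notMem]
      intro r hr
      rw [Polynomial.mem_roots hf0] at hr
      exact hroot r (by simpa [f] using hr)
    haveI := Fact.mk hirr
    have h2 : Module.finrank F (AdjoinRoot f) = 2 := by
      rw [(AdjoinRoot.powerBasis hf0).finrank, AdjoinRoot.powerBasis_dim, hdeg]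
    obtain ⟨φ⟩ := FiniteField.nonempty_algHom_of_finrank_dvd (F := F) (K := AdjoinRoot f) (L := K)
      (by rw [h2, FieldExt.finrank_eq_two hF hK])
    refine ⟨φ (AdjoinRoot.root f), ?_⟩
    have := congrArg φ (AdjoinRoot.eval₂_root f)
    have hc : ∀ c : F, φ (AdjoinRoot.of f c) = algebraMap F K c := fun c => φ.commutes c
    simp only [f, Polynomial.eval₂_add, Polynomial.eval₂_sub, Polynomial.eval₂_mul, Polynomial.eval₂_pow,
      Polynomial.eval₂_X, Polynomial.eval₂_C, map_add, map_sub, map_mul, map_pow, map_zero] at this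
    rw [hc, hc] at this
    linear_combination this
  have hωF : ω ∉ Set.range (algebraMap F K) := by
    rintro ⟨r, rfl⟩
    refine hroot r ((algebraMap F K).injective ?_)
    simp only [map_add, map_sub, map_mul, map_pow, map_zero]
    linear_combination hω
  let σ : K →+* K := RingHom.mk' (powMonoidHom q) (fun x y => FieldExt.add_pow_q hF x y)
  have hσ : ∀ x, σ x = x ^ q := fun x => rfl
  have hσω : σ ω = algebraMap F K a - ω := by
    have h := congrArg σ hω
    rw [map_sub, map_mul, map_pow] at h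
    simp only [hσ] at h ⊢
    rw [FieldExt.algebraMap_pow hF, FieldExt.algebraMap_pow hF] at h
    have h' : (ω ^ q - ω) * (ω ^ q - (algebraMap F K a - ω)) = 0 := by linear_combination h - hω
    rcases mul_eq_zero.1 h' with e | e
    · exact absurd (FieldExt.mem_range_of_fixed hF (sub_eq_zero.1 e)) hωF
    · exact sub_eq_zero.1 e
  let e : (Fin 2 → F) →ₗ[F] K :=
    (LinearMap.proj 0).smulRight (1 : K) + (LinearMap.proj 1).smulRight ω
  have he : ∀ v, e v = algebraMap F K (v 0) + algebraMap F K (v 1) * ω := fun v => by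
    simp [e, Algebra.smul_def]
  have hinj : Function.Injective e := by
    rw [injective_iff_map_eq_zero]
    intro v hv
    rw [he] at hv
    have h1 : v 1 = 0 := by
      by_contra h1
      refine hωF ⟨-(v 0 / v 1), ?_⟩
      have h1' : algebraMap F K (v 1) ≠ 0 := fun h => h1 ((algebraMap F K).injective (by rw [h, map_zero]))
      rw [map_neg, map_div₀]
      field_simp
      linear_combination -hv
    have h0 : v 0 = 0 := (algebraMap F K).injective (by
      rw [h1, map_zero, zero_mul, add_zero] at hv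
      rw [hv, map_zero])
    funext i
    fin_cases i <;> simp [h0, h1]
  haveI : FiniteDimensional F K := Module.finite_of_finrank_eq_succ (FieldExt.finrank_eq_two hF hK)
  let E : (Fin 2 → F) ≃ₗ[F] K := LinearEquiv.ofBijective e ⟨hinj,
    (LinearMap.injective_iff_surjective_of_finrank_eq_finrank (by
      rw [FieldExt.finrank_eq_two hF hK, Module.finrank_fin_fun])).1 hinj⟩
  refine ⟨⟨σ, fun x => FieldExt.pow_q_pow_q hK x, fun t => FieldExt.algebraMap_pow hF t,
    fun x hx => FieldExt.mem_range_of_fixed hF hx, E.symm, fun t => ?_, fun x => ?_⟩, hσ⟩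
  · rw [LinearEquiv.symm_apply_eq]
    show _ = e ![t, 0]
    rw [he]
    simp
  · obtain ⟨v, rfl⟩ := E.surjective x
    rw [LinearEquiv.symm_apply_apply]
    show e v * σ (e v) = _
    rw [he, map_add, map_mul, hσω]
    simp only [hσ, FieldExt.algebraMap_pow hF, map_add, map_mul, map_pow]
    linear_combination -(algebraMap F K (v 1)) ^ 2 * hω

variable [Algebra F K] {a b : F} (D : QuadData F K a b)

/-- The adjoint for the conjugation. -/
def QuadData.star' (M : Matrix (Fin 2) (Fin 2) K) : Matrix (Fin 2) (Fin 2) K := (M.map D.σ)ᵀ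

theorem QuadData.star'_mul (M N : Matrix (Fin 2) (Fin 2) K) : D.star' (M * N) = D.star' N * D.star' M := by
  rw [QuadData.star', Matrix.map_mul, Matrix.transpose_mul]
  rfl

theorem QuadData.star'_star' (M : Matrix (Fin 2) (Fin 2) K) : D.star' (D.star' M) = M := by
  ext i j
  simp [QuadData.star', D.σσ]

/-- Hermitian matrices by coordinates. -/
def QuadData.herm (v : (Fin 1 ⊕ Fin 1) ⊕ Fin 2 → F) : Matrix (Fin 2) (Fin 2) K :=
  !![algebraMap F K (v (.inl (.inl 0))), D.co.symm ![v (.inr 0), v (.inr 1)];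
    D.σ (D.co.symm ![v (.inr 0), v (.inr 1)]), -algebraMap F K (v (.inl (.inr 0)))]

/-- Coordinates of a hermitian matrix. -/
def QuadData.readH (M : Matrix (Fin 2) (Fin 2) K) : (Fin 1 ⊕ Fin 1) ⊕ Fin 2 → F :=
  Sum.elim (Sum.elim (fun _ => D.co (M 0 0) 0) (fun _ => -(D.co (M 1 1) 0))) (D.co (M 0 1))

theorem QuadData.readH_herm (v : (Fin 1 ⊕ Fin 1) ⊕ Fin 2 → F) : D.readH (D.herm v) = v := by
  funext i
  rcases i with (i | i) | i
  all_goals fin_cases i <;> simp [QuadData.readH, QuadData.herm, D.co_alg, map_neg]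

theorem QuadData.star'_herm (v : (Fin 1 ⊕ Fin 1) ⊕ Fin 2 → F) : D.star' (D.herm v) = D.herm v := by
  ext i j
  fin_cases i <;> fin_cases j <;> simp [QuadData.star', QuadData.herm, D.σσ, D.σF, map_neg]

theorem QuadData.herm_readH {M : Matrix (Fin 2) (Fin 2) K} (h : D.star' M = M) : D.herm (D.readH M) = M := by
  have h00 := congrFun (congrFun h 0) 0
  have h11 := congrFun (congrFun h 1) 1
  have h01 := congrFun (congrFun h 1) 0
  simp [QuadData.star'] at h00 h11 h01
  obtain ⟨s, hs⟩ := D.σfix _ h00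
  obtain ⟨t, ht⟩ := D.σfix _ h11
  have e1 : D.co.symm ![D.co (M 0 1) 0, D.co (M 0 1) 1] = M 0 1 := by
    rw [show ![D.co (M 0 1) 0, D.co (M 0 1) 1] = D.co (M 0 1) by funext i; fin_cases i <;> rfl,
      LinearEquiv.symm_apply_apply]
  ext i j
  fin_cases i <;> fin_cases j <;>
    simp [QuadData.readH, QuadData.herm, ← hs, ← ht, D.co_alg, e1, h01, map_neg]

theorem QuadData.quad_herm (v : (Fin 1 ⊕ Fin 1) ⊕ Fin 2 → F) :
    algebraMap F K (Cfsg.quadFormMinus 1 F a b v) = -(D.herm v).det := by
  have h := D.norm (D.co.symm ![v (.inr 0), v (.inr 1)])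
  rw [LinearEquiv.apply_symm_apply] at h
  simp [Cfsg.quadFormMinus, QuadData.herm, Matrix.det_fin_two] at h ⊢
  linear_combination -h

theorem QuadData.herm_add (u v : (Fin 1 ⊕ Fin 1) ⊕ Fin 2 → F) : D.herm (u + v) = D.herm u + D.herm v := by
  have e : D.co.symm ![(u + v) (.inr 0), (u + v) (.inr 1)] =
      D.co.symm ![u (.inr 0), u (.inr 1)] + D.co.symm ![v (.inr 0), v (.inr 1)] := by
    rw [← map_add]
    congr 1
    funext i
    fin_cases i <;> rfl
  ext i j
  rw [QuadData.herm, e]
  fin_cases i <;> fin_cases j <;> simp [QuadData.herm, map_add, -Matrix.cons_add_cons, add_comm]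

theorem QuadData.herm_smul (c : F) (v : (Fin 1 ⊕ Fin 1) ⊕ Fin 2 → F) : D.herm (c • v) = c • D.herm v := by
  have e : (![c * v (.inr 0), c * v (.inr 1)] : Fin 2 → F) = c • ![v (.inr 0), v (.inr 1)] := by
    funext i; fin_cases i <;> simp
  ext i j
  fin_cases i <;> fin_cases j <;> simp [QuadData.herm, e, map_smul, Algebra.smul_def (A := K), D.σF, -Matrix.smul_cons]

/-- The action on hermitian matrices. -/
noncomputable def QuadData.act (g : SL(2, K)) :
    ((Fin 1 ⊕ Fin 1) ⊕ Fin 2 → F) →ₗ[F] ((Fin 1 ⊕ Fin 1) ⊕ Fin 2 → F) where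
  toFun v := D.readH ((g : Matrix (Fin 2) (Fin 2) K) * D.herm v * D.star' (g : Matrix (Fin 2) (Fin 2) K))
  map_add' u v := by
    rw [D.herm_add, mul_add, add_mul]
    funext i
    rcases i with (i | i) | i <;> simp [QuadData.readH, map_add, add_comm]
  map_smul' c v := by
    rw [D.herm_smul, Matrix.mul_smul, Matrix.smul_mul]
    funext i
    rcases i with (i | i) | i <;> simp [QuadData.readH, map_smul]

theorem QuadData.star'_act (g : SL(2, K)) (v : (Fin 1 ⊕ Fin 1) ⊕ Fin 2 → F) :
    D.star' ((g : Matrix (Fin 2) (Fin 2) K) * D.herm v * D.star' (g : Matrix (Fin 2) (Fin 2) K)) =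
      (g : Matrix (Fin 2) (Fin 2) K) * D.herm v * D.star' (g : Matrix (Fin 2) (Fin 2) K) := by
  rw [D.star'_mul, D.star'_mul, D.star'_star', D.star'_herm, mul_assoc]

/-- `SL₂(K)` in the isometry group. -/
noncomputable def QuadData.hom : SL(2, K) →* ↥(Cfsg.isometryGroup F (Cfsg.quadFormMinus 1 F a b)) :=
  MonoidHom.codRestrict (MonoidHom.toHomUnits
    { toFun := fun g => LinearMap.toMatrix' (D.act g)
      map_one' := by
        rw [← LinearMap.toMatrix'_id]
        congr 1
        refine LinearMap.ext fun v => ?_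
        show D.readH ((1 : Matrix (Fin 2) (Fin 2) K) * D.herm v * D.star' (1 : Matrix (Fin 2) (Fin 2) K)) = v
        rw [show D.star' (1 : Matrix (Fin 2) (Fin 2) K) = 1 by
          rw [QuadData.star', Matrix.map_one _ (map_zero _) (map_one _), Matrix.transpose_one], one_mul, mul_one,
          D.readH_herm]
      map_mul' := fun g h => by
        rw [← LinearMap.toMatrix'_comp]
        congr 1
        refine LinearMap.ext fun v => ?_
        show D.readH (((g : Matrix (Fin 2) (Fin 2) K) * (h : Matrix (Fin 2) (Fin 2) K)) * D.herm v *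
          D.star' ((g : Matrix (Fin 2) (Fin 2) K) * (h : Matrix (Fin 2) (Fin 2) K))) =
          D.readH ((g : Matrix (Fin 2) (Fin 2) K) * D.herm (D.readH _) * D.star' (g : Matrix (Fin 2) (Fin 2) K))
        rw [D.herm_readH (D.star'_act h v), D.star'_mul]
        simp only [mul_assoc] })
    (Cfsg.isometryGroup F (Cfsg.quadFormMinus 1 F a b))
    fun g => show ∀ u _v, _ from fun u _ => by
      show Cfsg.quadFormMinus 1 F a b (LinearMap.toMatrix' (D.act g) *ᵥ u) = _
      rw [LinearMap.toMatrix'_mulVec]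
      show Cfsg.quadFormMinus 1 F a b (D.readH _) = Cfsg.quadFormMinus 1 F a b u
      refine (algebraMap F K).injective ?_
      rw [D.quad_herm, D.quad_herm, D.herm_readH (D.star'_act g u), Matrix.det_mul, Matrix.det_mul]
      have hg : (g : Matrix (Fin 2) (Fin 2) K).det = 1 := g.2
      have hgs : (D.star' (g : Matrix (Fin 2) (Fin 2) K)).det = 1 := by
        rw [QuadData.star', Matrix.det_transpose, ← RingHom.mapMatrix_apply, ← RingHom.map_det, hg, map_one]
      rw [hg, hgs, one_mul, mul_one]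

theorem QuadData.mem_ker_iff (g : SL(2, K)) :
    g ∈ (D.hom).ker ↔ ∃ c : K, c ^ 2 = 1 ∧ (g : Matrix (Fin 2) (Fin 2) K) = c • 1 := by
  set A : Matrix (Fin 2) (Fin 2) K := (g : Matrix (Fin 2) (Fin 2) K) with hA
  constructor
  · intro hg
    have hv : ∀ M, D.star' M = M → A * M * D.star' A = M := by
      intro M hM
      have h1 : LinearMap.toMatrix' (D.act g) = 1 :=
        congrArg (fun x : ↥(Cfsg.isometryGroup F (Cfsg.quadFormMinus 1 F a b)) =>
          ((x : GL ((Fin 1 ⊕ Fin 1) ⊕ Fin 2) F) :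
            Matrix ((Fin 1 ⊕ Fin 1) ⊕ Fin 2) ((Fin 1 ⊕ Fin 1) ⊕ Fin 2) F)) hg
      have h2 := congrArg (· *ᵥ D.readH M) h1
      simp only [LinearMap.toMatrix'_mulVec, Matrix.one_mulVec] at h2
      have h3 := congrArg D.herm h2
      change D.herm (D.readH (A * D.herm (D.readH M) * D.star' A)) = _ at h3
      rwa [D.herm_readH (D.star'_act g _), D.herm_readH hM] at h3
    have hone : A * D.star' A = 1 := by
      simpa using hv 1 (by rw [QuadData.star', Matrix.map_one _ (map_zero _) (map_one _), Matrix.transpose_one])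
    have hcomm : ∀ M, D.star' M = M → A * M = M * A := by
      intro M hM
      have h := congrArg (· * A) (hv M hM)
      simp only [mul_assoc] at h
      rwa [mul_eq_one_comm.1 hone, mul_one] at h
    have e1 := hcomm !![1, 0; 0, 0] (by ext i j; fin_cases i <;> fin_cases j <;> simp [QuadData.star'])
    have e2 := hcomm !![0, 1; 1, 0] (by ext i j; fin_cases i <;> fin_cases j <;> simp [QuadData.star'])
    have f1 := congrFun (congrFun e1 0) 1
    have f2 := congrFun (congrFun e1 1) 0
    have f3 := congrFun (congrFun e2 0) 1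
    simp [Matrix.mul_apply, Fin.sum_univ_two] at f1 f2 f3
    have hc : A = A 0 0 • 1 := by
      ext i j
      fin_cases i <;> fin_cases j <;> simp [← f1, f2, f3, Matrix.one_apply]
    refine ⟨_, ?_, hc⟩
    have hd : A.det = 1 := g.2
    rw [hc, Matrix.det_smul, Matrix.det_one, Fintype.card_fin, mul_one] at hd
    exact hd
  · rintro ⟨c, hc, hg⟩
    have hσc : D.σ c = c := by
      rcases sq_eq_one_iff.1 hc with h | h <;> simp [h]
    refine Subtype.ext (Units.ext ?_)
    show LinearMap.toMatrix' (D.act g) = 1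
    rw [← LinearMap.toMatrix'_id]
    congr 1
    refine LinearMap.ext fun v => ?_
    show D.readH (A * D.herm v * D.star' A) = v
    have hs : D.star' A = c • 1 := by
      rw [hg]
      ext i j
      fin_cases i <;> fin_cases j <;> simp [QuadData.star', hσc]
    rw [hs, hg, Matrix.smul_mul, one_mul, Matrix.mul_smul, mul_one, smul_smul, ← pow_two, hc, one_smul,
      D.readH_herm]

/-- `PΩ⁻₄(q) ≅ PSL₂(q²)`. -/
theorem pomega_four_minus {q : ℕ} (hF : Fintype.card F = q) (hK : Fintype.card K = q ^ 2)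
    (hab : ∀ z₁ z₂ : F, z₁ ^ 2 + a * z₁ * z₂ + b * z₂ ^ 2 = 0 → z₁ = 0 ∧ z₂ = 0) :
    Nonempty (Cfsg.POmega F (Cfsg.quadFormMinus 1 F a b) ≃* ProjectiveSpecialLinearGroup (Fin 2) K) := by
  classical
  obtain ⟨D, -⟩ := exists_quadData_frob (K := K) hF hK a b hab
  have hq : 2 ≤ q := hF ▸ Fintype.one_lt_card
  have hK4 : 4 ≤ Fintype.card K := by rw [hK]; nlinarith
  obtain ⟨e, he0, he1⟩ : ∃ e : K, e ≠ 0 ∧ e ^ 2 ≠ 1 := by
    by_contra hall
    push Not at hall
    have hsub : (Finset.univ : Finset K) ⊆ {0, 1, -1} := fun x _ => by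
      by_cases hx : x = 0
      · simp [hx]
      · rcases sq_eq_one_iff.1 (hall x hx) with h | h <;> simp [h]
    have := (Finset.card_le_card hsub).trans Finset.card_le_three
    rw [Finset.card_univ] at this
    omega
  have hp : commutator SL(2, K) = ⊤ := sl_subgroup_eq_top _ fun i j hij t => by
    rw [commutator_eq_closure]
    exact Subgroup.subset_closure (transvection_mem_commutatorSet_two he0 he1 hij t)
  refine pomega_iso D.hom (mem_omega_of_perfect hp _) (fun g hg => ?_) psl2_center ?_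
  · obtain ⟨c, -, hc⟩ := (D.mem_ker_iff g).1 hg
    exact sl2_scalar_mem_center hc
  have he : Nat.card D.hom.ker = Nat.card {c : K // c ^ 2 = 1} := by
    refine (Nat.card_congr (Equiv.ofBijective (fun c : {c : K // c ^ 2 = 1} =>
      (⟨⟨(c : K) • 1, by rw [Matrix.det_smul, Matrix.det_one, Fintype.card_fin, mul_one]; exact c.2⟩,
        (D.mem_ker_iff _).2 ⟨c.1, c.2, rfl⟩⟩ : D.hom.ker)) ⟨?_, ?_⟩)).symm
    · intro x y h
      have := congrFun (congrFun (congrArg (fun x : D.hom.ker =>
        ((x : SL(2, K)) : Matrix (Fin 2) (Fin 2) K)) h) 0) 0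
      simp at this
      exact Subtype.ext this
    · rintro ⟨g, hg⟩
      obtain ⟨c, hc, hgc⟩ := (D.mem_ker_iff g).1 hg
      exact ⟨⟨c, hc⟩, Subtype.ext (Subtype.ext hgc.symm)⟩
  have h := card_omega_mul (Qf := Cfsg.quadFormMinus 1 F a b) (minusForm F 1 a b) (minusForm_apply 1 a b)
  have hQ := minusForm_nondeg (F := F) 1 a b hab
  have hn : Module.finrank F ((Fin 1 ⊕ Fin 1) ⊕ Fin 2 → F) = 4 := by simp [Module.finrank_pi]
  rw [card_orth_minus hF a b hab 1, Finset.prod_range_one] at h
  rw [card_sl2 hK, he]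
  have hX : 2 * q ^ ((1 + 1) * 1) * (q ^ (1 + 1) + 1) * (q ^ (2 * (0 + 1)) - 1) =
      2 * (q ^ 2 * ((q ^ 2) ^ 2 - 1)) := by
    rw [show (q ^ 2) ^ 2 - 1 = (q ^ 2 + 1) * (q ^ 2 - 1) by rw [← Nat.sq_sub_sq, one_pow]]
    ring
  rw [hX] at h
  generalize hX' : q ^ 2 * ((q ^ 2) ^ 2 - 1) = X at h ⊢
  rcases card_sq_one (F := K) with ⟨h2, hk⟩ | ⟨h2, hk⟩
  · have h2' : (2 : F) ≠ 0 := fun h => h2 (by rw [← map_ofNat (algebraMap F K) 2, h, map_zero])
    rw [index_commutator_odd hQ h2' (by omega)] at h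
    rw [hk]
    omega
  · have h2' : (2 : F) = 0 := (algebraMap F K).injective (by rw [map_ofNat, map_zero, h2])
    haveI : CharP F 2 := CharTwo.of_one_ne_zero_of_two_eq_zero one_ne_zero h2'
    rw [hk]
    by_cases hq3 : q = 2
    · obtain ⟨κ, hκ⟩ := exists_dickson (minusForm F 1 a b) hQ
      have hne : (commutator (orthGroup (minusForm F 1 a b))).index ≠ 1 := fun h1 => by
        rw [Subgroup.index_eq_one] at h1
        obtain ⟨v, hv⟩ := exists_value_top hQ (show 2 ≤ Module.finrank F ((Fin 1 ⊕ Fin 1) ⊕ Fin 2 → F) by omega) 1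
        have hm : refl (minusForm F 1 a b) v ∈ κ.ker :=
          Abelianization.commutator_subset_ker κ (h1.symm ▸ Subgroup.mem_top _)
        rw [MonoidHom.mem_ker, hκ v (by rw [hv]; exact one_ne_zero)] at hm
        exact one_ne_zero (congrArg Multiplicative.toAdd hm)
      have h0 : (commutator (orthGroup (minusForm F 1 a b))).index ≠ 0 := Subgroup.index_ne_zero_of_finite
      have hge : Nat.card SL(2, K) ≤ Nat.card ↥(Cfsg.Omega F (Cfsg.quadFormMinus 1 F a b)) * Nat.card D.hom.ker := by
        rw [Subgroup.card_eq_card_quotient_mul_card_subgroup D.hom.ker,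
          Nat.card_congr (QuotientGroup.quotientKerEquivRange D.hom).toEquiv]
        refine Nat.mul_le_mul_right _ (Nat.card_le_card_of_injective
          (fun x => (⟨x.1, by obtain ⟨s, hs⟩ := x.2; exact hs ▸ mem_omega_of_perfect hp _ s⟩ :
            ↥(Cfsg.Omega F (Cfsg.quadFormMinus 1 F a b)))) fun x y hxy => Subtype.ext (congrArg Subtype.val hxy :))
      rw [card_sl2 hK, he, hk, hX', mul_one] at hge
      have := Nat.mul_le_mul_left (Nat.card ↥(Cfsg.Omega F (Cfsg.quadFormMinus 1 F a b)))
        (show 2 ≤ (commutator (orthGroup (minusForm F 1 a b))).index by omega)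
      omega
    · rw [index_commutator_two hQ (good_of (Or.inl (by omega))) (by omega)] at h
      omega

end CfsgLib.Classical.LowRank
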