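import Cfsg.Agent.Lib.Classical.LowRank.SLTwo
import Cfsg.Agent.Lib.Classical.OrthCount
import Cfsg.Agent.Lib.Classical.OrthApps
import Cfsg.Agent.Lib.KnownC.OrthTools

/-!
# `PΩ⁺₄(q) ≅ PSL₂(q) × PSL₂(q)`
-/

set_option autoImplicit false
set_option linter.unusedSectionVars false
set_option linter.unusedSimpArgs false
set_option backward.isDefEq.respectTransparency false

namespace CfsgLib.Classical.LowRank

open Matrix CfsgLib.Orth
open scoped MatrixGroups commutatorElement

variable {F : Type*} [Field F]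

/-- `2 × 2` matrices by coordinates. -/
def mat4 (v : Fin 2 ⊕ Fin 2 → F) : Matrix (Fin 2) (Fin 2) F :=
  !![v (.inl 0), v (.inl 1); -v (.inr 1), v (.inr 0)]

/-- Coordinates of a `2 × 2` matrix. -/
def read4 (M : Matrix (Fin 2) (Fin 2) F) : Fin 2 ⊕ Fin 2 → F :=
  Sum.elim ![M 0 0, M 0 1] ![M 1 1, -M 1 0]

theorem read4_mat4 (v : Fin 2 ⊕ Fin 2 → F) : read4 (mat4 v) = v := by
  funext i
  rcases i with i | i <;> fin_cases i <;> simp [read4, mat4]

theorem mat4_read4 (M : Matrix (Fin 2) (Fin 2) F) : mat4 (read4 M) = M := by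
  ext i j
  fin_cases i <;> fin_cases j <;> simp [read4, mat4]

theorem quad_mat4 (v : Fin 2 ⊕ Fin 2 → F) : Cfsg.quadFormPlus 2 F v = (mat4 v).det := by
  simp [Cfsg.quadFormPlus, mat4, Matrix.det_fin_two, Fin.sum_univ_two]

variable (F) in
/-- Pairs of matrices of equal determinant. -/
def eqDet : Subgroup (GL (Fin 2) F × GL (Fin 2) F) :=
  MonoidHom.eqLocus
    ((Matrix.GeneralLinearGroup.det : GL (Fin 2) F →* Fˣ).comp (MonoidHom.fst (GL (Fin 2) F) (GL (Fin 2) F)))
    ((Matrix.GeneralLinearGroup.det : GL (Fin 2) F →* Fˣ).comp (MonoidHom.snd (GL (Fin 2) F) (GL (Fin 2) F)))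

/-- Left and right multiplication. -/
noncomputable def bimul (p : eqDet F) : (Fin 2 ⊕ Fin 2 → F) →ₗ[F] (Fin 2 ⊕ Fin 2 → F) where
  toFun v := read4 ((p.1.1 : Matrix (Fin 2) (Fin 2) F) * mat4 v * ((p.1.2⁻¹ : GL (Fin 2) F) : Matrix (Fin 2) (Fin 2) F))
  map_add' u v := by
    rw [show mat4 (u + v) = mat4 u + mat4 v by
      ext i j; fin_cases i <;> fin_cases j <;> simp [mat4, add_comm], mul_add, add_mul]
    funext i
    rcases i with i | i <;> fin_cases i <;> simp [read4, add_comm]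
  map_smul' c v := by
    rw [show mat4 (c • v) = c • mat4 v by ext i j; fin_cases i <;> fin_cases j <;> simp [mat4],
      Matrix.mul_smul, Matrix.smul_mul]
    funext i
    rcases i with i | i <;> fin_cases i <;> simp [read4]

/-- Pairs of equal determinant in the isometry group of the determinant. -/
noncomputable def bimulHom : eqDet F →* ↥(Cfsg.isometryGroup F (Cfsg.quadFormPlus 2 F)) :=
  MonoidHom.codRestrict (MonoidHom.toHomUnits
    { toFun := fun p => LinearMap.toMatrix' (bimul p)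
      map_one' := by
        rw [← LinearMap.toMatrix'_id]
        congr 1
        refine LinearMap.ext fun v => ?_
        show read4 (((1 : GL (Fin 2) F) : Matrix (Fin 2) (Fin 2) F) * mat4 v *
          (((1 : GL (Fin 2) F)⁻¹ : GL (Fin 2) F) : Matrix (Fin 2) (Fin 2) F)) = v
        rw [inv_one, Units.val_one, one_mul, mul_one, read4_mat4]
      map_mul' := fun p r => by
        rw [← LinearMap.toMatrix'_comp]
        congr 1
        refine LinearMap.ext fun v => ?_
        show read4 (((p.1.1 * r.1.1 : GL (Fin 2) F) : Matrix (Fin 2) (Fin 2) F) * mat4 v *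
          (((p.1.2 * r.1.2)⁻¹ : GL (Fin 2) F) : Matrix (Fin 2) (Fin 2) F)) = read4 (_ * mat4 (read4 _) * _)
        rw [mat4_read4, Units.val_mul, _root_.mul_inv_rev, Units.val_mul]
        simp only [mul_assoc] })
    (Cfsg.isometryGroup F (Cfsg.quadFormPlus 2 F))
    fun p => show ∀ u _v, _ from fun u _ => by
      show Cfsg.quadFormPlus 2 F (LinearMap.toMatrix' (bimul p) *ᵥ u) = _
      rw [LinearMap.toMatrix'_mulVec]
      show Cfsg.quadFormPlus 2 F (read4 _) = Cfsg.quadFormPlus 2 F u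
      have hp : (p.1.1 : Matrix (Fin 2) (Fin 2) F).det = (p.1.2 : Matrix (Fin 2) (Fin 2) F).det :=
        congrArg Units.val p.2
      rw [quad_mat4, quad_mat4, mat4_read4, Matrix.det_mul, Matrix.det_mul, mul_right_comm, hp, ← Matrix.det_mul,
        ← Units.val_mul, mul_inv_cancel, Units.val_one, Matrix.det_one, one_mul]

/-- Two copies of `SL₂` as pairs of equal determinant. -/
def pairSL : SL(2, F) × SL(2, F) →* eqDet F :=
  MonoidHom.codRestrict (MonoidHom.prodMap (SpecialLinearGroup.toGL : SL(2, F) →* GL (Fin 2) F)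
    (SpecialLinearGroup.toGL : SL(2, F) →* GL (Fin 2) F)) (eqDet F) fun x => Units.ext (by
      show (x.1 : Matrix (Fin 2) (Fin 2) F).det = (x.2 : Matrix (Fin 2) (Fin 2) F).det
      rw [x.1.2, x.2.2])

/-- `SL₂ × SL₂` in the isometry group. -/
noncomputable def bimulSL : SL(2, F) × SL(2, F) →* ↥(Cfsg.isometryGroup F (Cfsg.quadFormPlus 2 F)) :=
  bimulHom.comp pairSL

theorem bimulSL_mem [Fintype F] (hq : 3 ≤ Fintype.card F) (s : SL(2, F) × SL(2, F)) :
    bimulSL s ∈ Cfsg.Omega F (Cfsg.quadFormPlus 2 F) := by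
  obtain ⟨a, ha0, ha1⟩ := exists_not_zero_one hq
  have hgen : ∀ (i j : Fin 2) (hij : i ≠ j) (c : F),
      bimulSL (SpecialLinearGroup.transvection hij c, 1) ∈ Cfsg.Omega F (Cfsg.quadFormPlus 2 F) ∧
      bimulSL (1, SpecialLinearGroup.transvection hij c) ∈ Cfsg.Omega F (Cfsg.quadFormPlus 2 F) := by
    intro i j hij c
    obtain ⟨d, t, hdt⟩ := transvection_eq_comm ha0 ha1 hij c
    have e1 : pairSL (SpecialLinearGroup.transvection hij c, 1) = ⁅(⟨(d, d), rfl⟩ : eqDet F), pairSL (t, 1)⁆ := by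
      refine Subtype.ext (Prod.ext hdt.symm ?_)
      show SpecialLinearGroup.toGL (1 : SL(2, F)) = ⁅d, SpecialLinearGroup.toGL (1 : SL(2, F))⁆
      rw [map_one, commutatorElement_one_right]
    have e2 : pairSL (1, SpecialLinearGroup.transvection hij c) = ⁅(⟨(d, d), rfl⟩ : eqDet F), pairSL (1, t)⁆ := by
      refine Subtype.ext (Prod.ext ?_ hdt.symm)
      show SpecialLinearGroup.toGL (1 : SL(2, F)) = ⁅d, SpecialLinearGroup.toGL (1 : SL(2, F))⁆
      rw [map_one, commutatorElement_one_right]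
    constructor
    · show bimulHom (pairSL _) ∈ Cfsg.Omega F (Cfsg.quadFormPlus 2 F)
      rw [e1, map_commutatorElement]
      exact Subgroup.commutator_mem_commutator (Subgroup.mem_top _) (Subgroup.mem_top _)
    · show bimulHom (pairSL _) ∈ Cfsg.Omega F (Cfsg.quadFormPlus 2 F)
      rw [e2, map_commutatorElement]
      exact Subgroup.commutator_mem_commutator (Subgroup.mem_top _) (Subgroup.mem_top _)
  have h1 : ((Cfsg.Omega F (Cfsg.quadFormPlus 2 F)).comap bimulSL).comap (MonoidHom.inl SL(2, F) SL(2, F)) = ⊤ :=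
    sl_subgroup_eq_top _ fun i j hij c => (hgen i j hij c).1
  have h2 : ((Cfsg.Omega F (Cfsg.quadFormPlus 2 F)).comap bimulSL).comap (MonoidHom.inr SL(2, F) SL(2, F)) = ⊤ :=
    sl_subgroup_eq_top _ fun i j hij c => (hgen i j hij c).2
  have m1 : bimulSL (s.1, 1) ∈ Cfsg.Omega F (Cfsg.quadFormPlus 2 F) :=
    (h1 ▸ Subgroup.mem_top s.1 : s.1 ∈ ((Cfsg.Omega F (Cfsg.quadFormPlus 2 F)).comap bimulSL).comap
      (MonoidHom.inl SL(2, F) SL(2, F)))
  have m2 : bimulSL (1, s.2) ∈ Cfsg.Omega F (Cfsg.quadFormPlus 2 F) :=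
    (h2 ▸ Subgroup.mem_top s.2 : s.2 ∈ ((Cfsg.Omega F (Cfsg.quadFormPlus 2 F)).comap bimulSL).comap
      (MonoidHom.inr SL(2, F) SL(2, F)))
  have := mul_mem m1 m2
  rwa [← map_mul, Prod.mk_mul_mk, one_mul, mul_one] at this

theorem mem_ker_bimulSL_iff (g : SL(2, F) × SL(2, F)) :
    g ∈ (bimulSL (F := F)).ker ↔
      ∃ c : F, c ^ 2 = 1 ∧ (g.1 : Matrix (Fin 2) (Fin 2) F) = c • 1 ∧ g.2 = g.1 := by
  set G : GL (Fin 2) F := SpecialLinearGroup.toGL g.1 with hGdef
  set H : GL (Fin 2) F := SpecialLinearGroup.toGL g.2 with hHdef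
  have hG : (G : Matrix (Fin 2) (Fin 2) F) = (g.1 : Matrix (Fin 2) (Fin 2) F) := rfl
  have hH : (H : Matrix (Fin 2) (Fin 2) F) = (g.2 : Matrix (Fin 2) (Fin 2) F) := rfl
  constructor
  · intro hg
    have hv : ∀ M : Matrix (Fin 2) (Fin 2) F,
        (g.1 : Matrix (Fin 2) (Fin 2) F) * M = M * (g.2 : Matrix (Fin 2) (Fin 2) F) := by
      intro M
      have h1 : LinearMap.toMatrix' (bimul (pairSL g)) = 1 :=
        congrArg (fun x : ↥(Cfsg.isometryGroup F (Cfsg.quadFormPlus 2 F)) =>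
          ((x : GL (Fin 2 ⊕ Fin 2) F) : Matrix (Fin 2 ⊕ Fin 2) (Fin 2 ⊕ Fin 2) F)) hg
      have h2 := congrArg (· *ᵥ read4 M) h1
      simp only [LinearMap.toMatrix'_mulVec, Matrix.one_mulVec] at h2
      have h3 := congrArg mat4 h2
      change mat4 (read4 ((G : Matrix (Fin 2) (Fin 2) F) * mat4 (read4 M) *
        ((H⁻¹ : GL (Fin 2) F) : Matrix (Fin 2) (Fin 2) F))) = _ at h3
      rw [mat4_read4, mat4_read4] at h3
      have h4 := congrArg (· * (H : Matrix (Fin 2) (Fin 2) F)) h3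
      simp only [mul_assoc] at h4
      rw [← Units.val_mul, inv_mul_cancel, Units.val_one, mul_one, hG, hH] at h4
      exact h4
    have h12 : (g.1 : Matrix (Fin 2) (Fin 2) F) = (g.2 : Matrix (Fin 2) (Fin 2) F) := by simpa using hv 1
    have hc := scalar_of_commute (A := (g.1 : Matrix (Fin 2) (Fin 2) F))
      (by conv_rhs => rw [h12, ← hv])
      (by conv_rhs => rw [h12, ← hv])
    refine ⟨_, ?_, hc, Subtype.ext h12.symm⟩
    have hd : ((g.1 : Matrix (Fin 2) (Fin 2) F)).det = 1 := g.1.2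
    rw [hc, Matrix.det_smul, Matrix.det_one, Fintype.card_fin, mul_one] at hd
    exact hd
  · rintro ⟨c, hc, hg, h21⟩
    refine Subtype.ext (Units.ext ?_)
    show LinearMap.toMatrix' (bimul (pairSL g)) = 1
    rw [← LinearMap.toMatrix'_id]
    congr 1
    refine LinearMap.ext fun v => ?_
    show read4 ((G : Matrix (Fin 2) (Fin 2) F) * mat4 v * ((H⁻¹ : GL (Fin 2) F) : Matrix (Fin 2) (Fin 2) F)) = v
    rw [show H = G by rw [hHdef, hGdef, h21],
      show (G : Matrix (Fin 2) (Fin 2) F) * mat4 v = mat4 v * (G : Matrix (Fin 2) (Fin 2) F) by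
      rw [hG, hg, Matrix.smul_mul, one_mul, Matrix.mul_smul, mul_one], mul_assoc, ← Units.val_mul,
      mul_inv_cancel, Units.val_one, mul_one, read4_mat4]

theorem mem_center_prod_iff {A B : Type*} [Group A] [Group B] (x : A × B) :
    x ∈ Subgroup.center (A × B) ↔ x.1 ∈ Subgroup.center A ∧ x.2 ∈ Subgroup.center B := by
  simp only [Subgroup.mem_center_iff, Prod.forall, Prod.ext_iff, Prod.fst_mul, Prod.snd_mul]
  exact ⟨fun h => ⟨fun a => (h a 1).1, fun b => (h 1 b).2⟩, fun h a b => ⟨h.1 a, h.2 b⟩⟩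

theorem prod_center_crit {s : SL(2, F) × SL(2, F)}
    (h : ∀ x, ⁅s, x⁆ ∈ Subgroup.center (SL(2, F) × SL(2, F))) : s ∈ Subgroup.center (SL(2, F) × SL(2, F)) := by
  rw [mem_center_prod_iff]
  exact ⟨sl2_center_crit fun x => ((mem_center_prod_iff _).1 (h (x, 1))).1,
    sl2_center_crit fun x => ((mem_center_prod_iff _).1 (h (1, x))).2⟩

/-- `PΩ⁺₄(q) ≅ PSL₂(q) × PSL₂(q)` for `q ≥ 3`. -/
theorem pomega_four_plus [Fintype F] (hq : 3 ≤ Fintype.card F) :
    Nonempty (Cfsg.POmega F (Cfsg.quadFormPlus 2 F) ≃*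
      ProjectiveSpecialLinearGroup (Fin 2) F × ProjectiveSpecialLinearGroup (Fin 2) F) := by
  classical
  have hker : (bimulSL (F := F)).ker ≤ Subgroup.center (SL(2, F) × SL(2, F)) := fun g hg => by
    obtain ⟨c, -, hc, h21⟩ := (mem_ker_bimulSL_iff g).1 hg
    rw [mem_center_prod_iff, h21]
    exact ⟨sl2_scalar_mem_center hc, sl2_scalar_mem_center hc⟩
  have hcard : Nat.card ↥(Cfsg.Omega F (Cfsg.quadFormPlus 2 F)) * Nat.card (bimulSL (F := F)).ker =
      Nat.card (SL(2, F) × SL(2, F)) := by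
    have he : Nat.card (bimulSL (F := F)).ker = Nat.card {c : F // c ^ 2 = 1} := by
      let sc : {c : F // c ^ 2 = 1} → SL(2, F) := fun c =>
        ⟨(c : F) • 1, by rw [Matrix.det_smul, Matrix.det_one, Fintype.card_fin, mul_one]; exact c.2⟩
      refine (Nat.card_congr (Equiv.ofBijective (fun c : {c : F // c ^ 2 = 1} =>
        (⟨(sc c, sc c), (mem_ker_bimulSL_iff _).2 ⟨c.1, c.2, rfl, rfl⟩⟩ : (bimulSL (F := F)).ker)) ⟨?_, ?_⟩)).symm
      · intro a b h
        have := congrFun (congrFun (congrArg (fun x : (bimulSL (F := F)).ker =>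
          ((x : SL(2, F) × SL(2, F)).1 : Matrix (Fin 2) (Fin 2) F)) h) 0) 0
        simp [sc] at this
        exact Subtype.ext this
      · rintro ⟨g, hg⟩
        obtain ⟨c, hc, hgc, h21⟩ := (mem_ker_bimulSL_iff g).1 hg
        refine ⟨⟨c, hc⟩, Subtype.ext (Prod.ext (Subtype.ext hgc.symm) ?_)⟩
        rw [h21]
        exact Subtype.ext hgc.symm
    have h := card_omega_mul (Qf := Cfsg.quadFormPlus 2 F) (plusForm F 2) (plusForm_apply 2)
    have hQ := plusForm_nondeg (F := F) 2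
    have hn : Module.finrank F (Fin 2 ⊕ Fin 2 → F) = 4 := by simp [Module.finrank_pi]
    rw [card_orth_plus rfl 1, Finset.prod_range_one] at h
    rw [Nat.card_prod, card_sl2 rfl, he]
    set q := Fintype.card F with hqdef
    have hX : 2 * q ^ ((1 + 1) * 1) * (q ^ (1 + 1) - 1) * (q ^ (2 * (0 + 1)) - 1) =
        2 * (q * (q ^ 2 - 1) * (q * (q ^ 2 - 1))) := by ring
    rw [hX] at h
    generalize q * (q ^ 2 - 1) * (q * (q ^ 2 - 1)) = X at h ⊢
    rcases card_sq_one (F := F) with ⟨h2, hk⟩ | ⟨h2, hk⟩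
    · rw [index_commutator_odd hQ h2 (by omega)] at h
      rw [hk]
      omega
    · haveI : CharP F 2 := CharTwo.of_one_ne_zero_of_two_eq_zero one_ne_zero h2
      rw [index_commutator_two hQ (good_of (Or.inl (by omega))) (by omega)] at h
      rw [hk]
      omega
  obtain ⟨e⟩ := pomega_iso bimulSL (bimulSL_mem hq) hker (center_quot_of_crit fun _ h => prod_center_crit h) hcard
  let π : SL(2, F) × SL(2, F) →*
      ProjectiveSpecialLinearGroup (Fin 2) F × ProjectiveSpecialLinearGroup (Fin 2) F :=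
    MonoidHom.prodMap (QuotientGroup.mk' _) (QuotientGroup.mk' _)
  have hπ : π.ker = Subgroup.center (SL(2, F) × SL(2, F)) := by
    ext x
    rw [mem_center_prod_iff, MonoidHom.mem_ker, Prod.ext_iff]
    exact and_congr (QuotientGroup.eq_one_iff _) (QuotientGroup.eq_one_iff _)
  exact ⟨e.trans ((QuotientGroup.quotientMulEquivOfEq hπ).symm.trans (QuotientGroup.quotientKerEquivOfSurjective π
    (Function.Surjective.prodMap (QuotientGroup.mk'_surjective _) (QuotientGroup.mk'_surjective _))))⟩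

end CfsgLib.Classical.LowRank
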