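import Cfsg.Agent.Lib.Classical.LowRank.Core
import Cfsg.Agent.Lib.Classical.SL2Sylow
import Cfsg.Agent.Lib.Classical.SLBasic
import Cfsg.Agent.Lib.Classical.SLOrders

/-!
# Tools about `SL₂`
-/

set_option autoImplicit false
set_option linter.unusedSectionVars false
set_option linter.unusedSimpArgs false
set_option backward.isDefEq.respectTransparency false

namespace CfsgLib.Classical.LowRank

open Matrix
open scoped MatrixGroups commutatorElement

variable {F : Type*} [Field F]

theorem exists_not_zero_one [Fintype F] (h : 3 ≤ Fintype.card F) : ∃ a : F, a ≠ 0 ∧ a ≠ 1 := by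
  classical
  by_contra hall
  push Not at hall
  have hsub : (Finset.univ : Finset F) ⊆ {0, 1} := fun a _ => by
    by_cases ha : a = 0
    · simp [ha]
    · simp [hall a ha]
  have := (Finset.card_le_card hsub).trans Finset.card_le_two
  rw [Finset.card_univ] at this
  omega

/-- A transvection as the commutator of a diagonal matrix with a transvection. -/
theorem transvection_eq_comm {n : Type*} [Fintype n] [DecidableEq n] {a : F} (ha0 : a ≠ 0) (ha1 : a ≠ 1) {i j : n}
    (hij : i ≠ j) (c : F) :
    ∃ (d : GL n F) (t : SpecialLinearGroup n F),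
      ⁅d, SpecialLinearGroup.toGL t⁆ = SpecialLinearGroup.toGL (SpecialLinearGroup.transvection hij c) := by
  have hdet : (Matrix.diagonal (fun x : n => if x = i then a else 1)).det ≠ 0 := by
    simp [Matrix.det_diagonal, Finset.prod_ite_eq', ha0]
  let d : GL n F := GeneralLinearGroup.mkOfDetNeZero _ hdet
  let t : GL n F := SpecialLinearGroup.toGL (SpecialLinearGroup.transvection hij (c / (a - 1)))
  have h : d * t = SpecialLinearGroup.toGL (SpecialLinearGroup.transvection hij c) * (t * d) := by
    refine Units.ext ?_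
    simp only [Units.val_mul]
    change Matrix.diagonal (fun x : n => if x = i then a else 1) * (1 + Matrix.single i j (c / (a - 1))) =
      (1 + Matrix.single i j c) *
        ((1 + Matrix.single i j (c / (a - 1))) * Matrix.diagonal (fun x : n => if x = i then a else 1))
    ext x y
    simp only [← mul_assoc, add_mul, mul_add, one_mul, mul_one,
      Matrix.single_mul_single_of_ne _ _ _ _ hij.symm, zero_mul, add_zero, Matrix.add_apply,
      Matrix.diagonal_mul, Matrix.mul_diagonal, Matrix.single_apply]
    by_cases hx : i = x <;> by_cases hy : j = y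
    · subst hx hy
      have : a - 1 ≠ 0 := sub_ne_zero.2 ha1
      simp [hij, hij.symm]
      field_simp
      ring
    all_goals (simp [hx, hy, Matrix.one_apply, Matrix.diagonal_apply]; try (split_ifs <;> simp_all))
  refine ⟨d, SpecialLinearGroup.transvection hij (c / (a - 1)), ?_⟩
  show ⁅d, t⁆ = _
  rw [commutatorElement_def, h, mul_assoc, mul_assoc, mul_assoc, mul_inv_cancel_left, mul_inv_cancel, mul_one]

/-- A `2 × 2` matrix commuting with both elementary nilpotents is scalar. -/
theorem scalar_of_commute {A : Matrix (Fin 2) (Fin 2) F} (h1 : A * !![0, 1; 0, 0] = !![0, 1; 0, 0] * A)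
    (h2 : A * !![0, 0; 1, 0] = !![0, 0; 1, 0] * A) : A = A 0 0 • 1 := by
  have a := congrFun (congrFun h1 0) 1
  have b := congrFun (congrFun h1 1) 1
  have c := congrFun (congrFun h2 0) 0
  simp [Matrix.mul_apply, Fin.sum_univ_two] at a b c
  ext i j
  fin_cases i <;> fin_cases j <;> simp [a, b, c, Matrix.one_apply]

theorem sl2_scalar_mem_center {g : SL(2, F)} {c : F} (h : (g : Matrix (Fin 2) (Fin 2) F) = c • 1) :
    g ∈ Subgroup.center SL(2, F) := by
  rw [Subgroup.mem_center_iff]
  intro x
  refine Subtype.ext ?_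
  show (x : Matrix (Fin 2) (Fin 2) F) * (g : Matrix (Fin 2) (Fin 2) F) =
    (g : Matrix (Fin 2) (Fin 2) F) * (x : Matrix (Fin 2) (Fin 2) F)
  rw [h, Matrix.mul_smul, Matrix.smul_mul, one_mul, mul_one]

/-- An element commuting modulo the centre with everything is central. -/
theorem sl2_center_crit {s : SL(2, F)} (h : ∀ x, ⁅s, x⁆ ∈ Subgroup.center SL(2, F)) :
    s ∈ Subgroup.center SL(2, F) := by
  have key : ∀ (i j : Fin 2) (hij : i ≠ j) (c : F),
      Commute s (SpecialLinearGroup.transvection hij c) := by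
    intro i j hij c
    obtain ⟨r, hr2, hr⟩ := Matrix.SpecialLinearGroup.mem_center_iff.1 (h (SpecialLinearGroup.transvection hij c))
    set T : SL(2, F) := SpecialLinearGroup.transvection hij c
    have e : s * T * s⁻¹ = ⁅s, T⁆ * T := by rw [commutatorElement_def, inv_mul_cancel_right]
    have e' := congrArg (fun x : SL(2, F) => (x : Matrix (Fin 2) (Fin 2) F).trace) e
    have hT : (T : Matrix (Fin 2) (Fin 2) F).trace = 2 := by
      show ((1 : Matrix (Fin 2) (Fin 2) F) + Matrix.single i j c).trace = 2
      rw [Matrix.trace_add, Matrix.trace_one, Matrix.trace_single_eq_of_ne _ _ _ hij]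
      simp
    have hl : ((s * T * s⁻¹ : SL(2, F)) : Matrix (Fin 2) (Fin 2) F).trace = (T : Matrix (Fin 2) (Fin 2) F).trace := by
      show ((s : Matrix (Fin 2) (Fin 2) F) * (T : Matrix (Fin 2) (Fin 2) F) *
        ((s⁻¹ : SL(2, F)) : Matrix (Fin 2) (Fin 2) F)).trace = _
      rw [Matrix.trace_mul_cycle, show ((s⁻¹ : SL(2, F)) : Matrix (Fin 2) (Fin 2) F) * (s : Matrix (Fin 2) (Fin 2) F)
        = 1 from congrArg (fun x : SL(2, F) => (x : Matrix (Fin 2) (Fin 2) F)) (inv_mul_cancel s), one_mul]
    have hrr : ((⁅s, T⁆ * T : SL(2, F)) : Matrix (Fin 2) (Fin 2) F).trace = r * 2 := by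
      show (((⁅s, T⁆ : SL(2, F)) : Matrix (Fin 2) (Fin 2) F) * (T : Matrix (Fin 2) (Fin 2) F)).trace = r * 2
      rw [← hr, Matrix.scalar_apply, ← Matrix.smul_one_eq_diagonal, Matrix.smul_mul, one_mul, Matrix.trace_smul, hT,
        smul_eq_mul]
    rw [hl, hrr, hT] at e'
    rw [Fintype.card_fin] at hr2
    have hr1 : r = 1 := by
      by_cases h2 : (2 : F) = 0
      · have : (r - 1) * (r - 1) = 0 := by linear_combination hr2 - r * h2 + h2
        exact sub_eq_zero.1 (mul_self_eq_zero.1 this)
      · exact mul_right_cancel₀ h2 (by linear_combination -e')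
    rw [← commutatorElement_eq_one_iff_commute]
    refine Subtype.ext ?_
    rw [← hr, hr1]
    simp
  rw [Subgroup.mem_center_iff]
  intro x
  have htop : Subgroup.centralizer ({s} : Set SL(2, F)) = ⊤ := sl_subgroup_eq_top _ fun i j hij c =>
    Subgroup.mem_centralizer_singleton_iff.2 (key i j hij c).eq.symm
  exact Subgroup.mem_centralizer_singleton_iff.1 (htop ▸ Subgroup.mem_top x)

theorem center_quot_of_crit {S : Type*} [Group S]
    (h : ∀ s : S, (∀ x, ⁅s, x⁆ ∈ Subgroup.center S) → s ∈ Subgroup.center S) :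
    Subgroup.center (S ⧸ Subgroup.center S) = ⊥ := by
  rw [Subgroup.eq_bot_iff_forall]
  intro x hx
  obtain ⟨s, rfl⟩ := QuotientGroup.mk_surjective x
  rw [QuotientGroup.eq_one_iff]
  refine h s fun y => ?_
  rw [← QuotientGroup.eq_one_iff, ← QuotientGroup.mk'_apply, map_commutatorElement,
    commutatorElement_eq_one_iff_mul_comm]
  exact ((Subgroup.mem_center_iff.1 hx) _).symm

theorem psl2_center : Subgroup.center (SL(2, F) ⧸ Subgroup.center SL(2, F)) = ⊥ :=
  center_quot_of_crit fun _ h => sl2_center_crit h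

theorem card_sq_one [Fintype F] :
    (2 : F) ≠ 0 ∧ Nat.card {c : F // c ^ 2 = 1} = 2 ∨ (2 : F) = 0 ∧ Nat.card {c : F // c ^ 2 = 1} = 1 := by
  classical
  have hset : {c : F | c ^ 2 = 1} = {1, -1} := by
    ext c; simp
  have hc : Nat.card {c : F // c ^ 2 = 1} = ({1, -1} : Set F).ncard := by rw [← hset]; rfl
  rw [hc]
  by_cases h2 : (2 : F) = 0
  · right
    rw [show (-1 : F) = 1 by linear_combination -h2, Set.pair_eq_singleton, Set.ncard_singleton]
    exact ⟨h2, rfl⟩
  · left
    rw [Set.ncard_pair fun h => h2 (by linear_combination h)]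
    exact ⟨h2, rfl⟩

end CfsgLib.Classical.LowRank
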