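import Cfsg.Agent.Lib.Classical.LowRank.Core
import Cfsg.Agent.Lib.Classical.OrthCount
import Cfsg.Agent.Lib.Classical.OrthApps
import Cfsg.Agent.Lib.Classical.SLBasic
import Cfsg.Agent.Lib.Classical.SLOrders
import Cfsg.Agent.Lib.KnownC.OrthTools

/-!
# The Klein correspondence: `PΩ⁺₆(q) ≅ PSL₄(q)`
-/

set_option autoImplicit false
set_option linter.unusedSectionVars false
set_option linter.unusedSimpArgs false
set_option backward.isDefEq.respectTransparency false

namespace CfsgLib.Classical.LowRank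

open Matrix CfsgLib.Orth

variable {F : Type*} [Field F]

/-- Alternating `4 × 4` matrices by coordinates. -/
def altMat (v : Fin 3 ⊕ Fin 3 → F) : Matrix (Fin 4) (Fin 4) F :=
  !![0, v (.inl 0), v (.inl 1), v (.inl 2);
    -v (.inl 0), 0, v (.inr 2), -v (.inr 1);
    -v (.inl 1), -v (.inr 2), 0, v (.inr 0);
    -v (.inl 2), v (.inr 1), -v (.inr 0), 0]

/-- Coordinates of an alternating matrix. -/
def altRead (M : Matrix (Fin 4) (Fin 4) F) : Fin 3 ⊕ Fin 3 → F :=
  Sum.elim ![M 0 1, M 0 2, M 0 3] ![M 2 3, M 3 1, M 1 2]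

theorem altRead_altMat (v : Fin 3 ⊕ Fin 3 → F) : altRead (altMat v) = v := by
  funext i
  rcases i with i | i <;> fin_cases i <;> simp [altRead, altMat]

theorem altMat_add (u v : Fin 3 ⊕ Fin 3 → F) : altMat (u + v) = altMat u + altMat v := by
  ext i j
  fin_cases i <;> fin_cases j <;> simp [altMat, add_comm]

theorem altMat_smul (c : F) (v : Fin 3 ⊕ Fin 3 → F) : altMat (c • v) = c • altMat v := by
  ext i j
  fin_cases i <;> fin_cases j <;> simp [altMat]

set_option maxHeartbeats 2000000 in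
theorem altMat_congr (g : Matrix (Fin 4) (Fin 4) F) (v : Fin 3 ⊕ Fin 3 → F) :
    altMat (altRead (g * altMat v * gᵀ)) = g * altMat v * gᵀ := by
  ext i j
  fin_cases i <;> fin_cases j <;>
    simp [altMat, altRead, Matrix.mul_apply, Fin.sum_univ_four, Matrix.transpose_apply] <;> ring

set_option maxHeartbeats 2000000 in
theorem altRead_quad (g : Matrix (Fin 4) (Fin 4) F) (v : Fin 3 ⊕ Fin 3 → F) :
    Cfsg.quadFormPlus 3 F (altRead (g * altMat v * gᵀ)) = g.det * Cfsg.quadFormPlus 3 F v := by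
  simp [Cfsg.quadFormPlus, altMat, altRead, Matrix.mul_apply, Fin.sum_univ_four, Fin.sum_univ_three,
    Matrix.transpose_apply, Matrix.det_succ_row_zero (n := 3), Matrix.det_fin_three, Fin.succAbove]
  ring

/-- The action of a matrix on alternating matrices. -/
def klein (g : Matrix (Fin 4) (Fin 4) F) : (Fin 3 ⊕ Fin 3 → F) →ₗ[F] (Fin 3 ⊕ Fin 3 → F) where
  toFun v := altRead (g * altMat v * gᵀ)
  map_add' u v := by
    rw [altMat_add, mul_add, add_mul]
    funext i
    rcases i with i | i <;> fin_cases i <;> simp [altRead]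
  map_smul' c v := by
    rw [altMat_smul, Matrix.mul_smul, Matrix.smul_mul]
    funext i
    rcases i with i | i <;> fin_cases i <;> simp [altRead]

/-- The action of `SL₄` as matrices. -/
noncomputable def kleinMat : SpecialLinearGroup (Fin 4) F →* Matrix (Fin 3 ⊕ Fin 3) (Fin 3 ⊕ Fin 3) F where
  toFun g := LinearMap.toMatrix' (klein (g : Matrix (Fin 4) (Fin 4) F))
  map_one' := by
    rw [← LinearMap.toMatrix'_id]
    congr 1
    refine LinearMap.ext fun v => ?_
    show altRead _ = v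
    show altRead ((1 : Matrix (Fin 4) (Fin 4) F) * altMat v * (1 : Matrix (Fin 4) (Fin 4) F)ᵀ) = v
    rw [Matrix.transpose_one, mul_one, one_mul, altRead_altMat]
  map_mul' g h := by
    rw [← LinearMap.toMatrix'_comp]
    congr 1
    refine LinearMap.ext fun v => ?_
    show altRead _ = altRead (_ * altMat (altRead _) * _)
    rw [altMat_congr]
    show altRead (((g : Matrix (Fin 4) (Fin 4) F) * (h : Matrix (Fin 4) (Fin 4) F)) * altMat v * ((g : Matrix (Fin 4) (Fin 4) F) * (h : Matrix (Fin 4) (Fin 4) F))ᵀ) = _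
    rw [Matrix.transpose_mul]
    congr 1
    simp only [mul_assoc]

/-- `SL₄` inside the isometry group of the Klein quadric. -/
noncomputable def kleinHom : SpecialLinearGroup (Fin 4) F →* ↥(Cfsg.isometryGroup F (Cfsg.quadFormPlus 3 F)) :=
  MonoidHom.codRestrict (kleinMat (F := F)).toHomUnits (Cfsg.isometryGroup F (Cfsg.quadFormPlus 3 F))
    fun g => show ∀ u _v, _ from fun u _ => by
      show Cfsg.quadFormPlus 3 F (LinearMap.toMatrix' (klein (g : Matrix (Fin 4) (Fin 4) F)) *ᵥ u) = _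
      rw [LinearMap.toMatrix'_mulVec]
      show Cfsg.quadFormPlus 3 F (altRead _) = _
      rw [altRead_quad, show (g : Matrix (Fin 4) (Fin 4) F).det = 1 from g.2, one_mul]

set_option maxHeartbeats 2000000 in
theorem mem_ker_kleinHom_iff (g : SpecialLinearGroup (Fin 4) F) :
    g ∈ (kleinHom (F := F)).ker ↔ ∃ c : F, c ^ 2 = 1 ∧ (g : Matrix (Fin 4) (Fin 4) F) = c • 1 := by
  constructor
  · intro hg
    have hv : ∀ v, (g : Matrix (Fin 4) (Fin 4) F) * altMat v * (g : Matrix (Fin 4) (Fin 4) F)ᵀ = altMat v := by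
      intro v
      rw [← altMat_congr]
      congr 1
      have h1 : LinearMap.toMatrix' (klein (g : Matrix (Fin 4) (Fin 4) F)) = 1 :=
        congrArg (fun x : ↥(Cfsg.isometryGroup F (Cfsg.quadFormPlus 3 F)) =>
          ((x : GL (Fin 3 ⊕ Fin 3) F) : Matrix (Fin 3 ⊕ Fin 3) (Fin 3 ⊕ Fin 3) F)) hg
      have h2 := congrArg (· *ᵥ v) h1
      simp only [LinearMap.toMatrix'_mulVec, Matrix.one_mulVec] at h2
      exact h2
    set A : Matrix (Fin 4) (Fin 4) F := (g : Matrix (Fin 4) (Fin 4) F)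
    set h : Matrix (Fin 4) (Fin 4) F := ((g⁻¹ : SpecialLinearGroup (Fin 4) F) : Matrix (Fin 4) (Fin 4) F)ᵀ
    have hh : Aᵀ * h = 1 := by
      refine ((Matrix.transpose_mul _ _).symm.trans (congrArg Matrix.transpose
        (congrArg (fun x : SpecialLinearGroup (Fin 4) F => (x : Matrix (Fin 4) (Fin 4) F))
          (inv_mul_cancel g)))).trans ?_
      exact Matrix.transpose_one
    have hlin : ∀ v a b, (A * altMat v : Matrix (Fin 4) (Fin 4) F) a b = (altMat v * h : Matrix (Fin 4) (Fin 4) F) a b := fun v a b => by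
      have e := congrArg (· * h) (hv v)
      simp only [mul_assoc, hh, mul_one] at e
      rw [e]
    have e1 := hlin (Sum.elim ![1, 0, 0] ![0, 0, 0])
    have e2 := hlin (Sum.elim ![0, 1, 0] ![0, 0, 0])
    have e3 := hlin (Sum.elim ![0, 0, 1] ![0, 0, 0])
    have e4 := hlin (Sum.elim ![0, 0, 0] ![1, 0, 0])
    have e5 := hlin (Sum.elim ![0, 0, 0] ![0, 1, 0])
    have e6 := hlin (Sum.elim ![0, 0, 0] ![0, 0, 1])
    simp [altMat, Matrix.mul_apply, Fin.sum_univ_four, Fin.forall_fin_succ] at e1 e2 e3 e4 e5 e6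
    obtain ⟨c, hc⟩ : ∃ c, A = c • 1 := ⟨A 0 0, by
      ext i j
      fin_cases i <;> fin_cases j <;> simp [Matrix.one_apply] <;> grind⟩
    refine ⟨c, ?_, hc⟩
    have h3 := congrFun (congrFun (hv (Sum.elim ![1, 0, 0] ![0, 0, 0])) 0) 1
    simp [hc, altMat] at h3
    linear_combination h3
  · rintro ⟨c, hc, hg⟩
    refine Subtype.ext (Units.ext ?_)
    show LinearMap.toMatrix' (klein (g : Matrix (Fin 4) (Fin 4) F)) = 1
    rw [← LinearMap.toMatrix'_id]
    congr 1
    refine LinearMap.ext fun v => ?_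
    show altRead _ = v
    rw [hg, Matrix.transpose_smul, Matrix.transpose_one, Matrix.smul_mul, Matrix.mul_smul, one_mul, mul_one,
      smul_smul, show c * c = 1 by linear_combination hc, one_smul, altRead_altMat]

theorem ker_kleinHom_le : (kleinHom (F := F)).ker ≤ Subgroup.center (SpecialLinearGroup (Fin 4) F) := by
  intro g hg
  obtain ⟨c, -, hc⟩ := (mem_ker_kleinHom_iff g).1 hg
  rw [Subgroup.mem_center_iff]
  intro x
  refine Subtype.ext ?_
  show (x : Matrix (Fin 4) (Fin 4) F) * (g : Matrix (Fin 4) (Fin 4) F) = (g : Matrix (Fin 4) (Fin 4) F) * (x : Matrix (Fin 4) (Fin 4) F)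
  rw [hc, Matrix.mul_smul, Matrix.smul_mul, one_mul, mul_one]

theorem card_ker_kleinHom [Fintype F] :
    Nat.card (kleinHom (F := F)).ker = Nat.card {c : F // c ^ 2 = 1} := by
  refine (Nat.card_congr (Equiv.ofBijective (fun c : {c : F // c ^ 2 = 1} =>
    (⟨⟨(c : F) • 1, by
      rw [Matrix.det_smul, Matrix.det_one, Fintype.card_fin, mul_one]
      linear_combination (c.1 ^ 2 + 1) * c.2⟩,
      (mem_ker_kleinHom_iff _).2 ⟨c.1, c.2, rfl⟩⟩ : (kleinHom (F := F)).ker)) ⟨?_, ?_⟩)).symm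
  · intro a b h
    have := congrFun (congrFun (congrArg (fun x : (kleinHom (F := F)).ker =>
      ((x : SpecialLinearGroup (Fin 4) F) : Matrix (Fin 4) (Fin 4) F)) h) 0) 0
    simp at this
    exact Subtype.ext this
  · rintro ⟨g, hg⟩
    obtain ⟨c, hc, hgc⟩ := (mem_ker_kleinHom_iff g).1 hg
    exact ⟨⟨c, hc⟩, Subtype.ext (Subtype.ext hgc.symm)⟩

theorem card_sqrt_one [Fintype F] [DecidableEq F] :
    Nat.card {c : F // c ^ 2 = 1} * 2 = if (2 : F) = 0 then 2 else 4 := by
  classical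
  have hset : {c : F | c ^ 2 = 1} = {1, -1} := by
    ext c; simp
  have hc : Nat.card {c : F // c ^ 2 = 1} = ({1, -1} : Set F).ncard := by rw [← hset]; rfl
  rw [hc]
  split_ifs with h2
  · rw [show (-1 : F) = 1 by linear_combination -h2, Set.pair_eq_singleton, Set.ncard_singleton]
  · rw [Set.ncard_pair fun h => h2 (by linear_combination h)]

theorem card_sl_four [Fintype F] {q : ℕ} (hF : Fintype.card F = q) :
    Nat.card (SpecialLinearGroup (Fin 4) F) = q ^ 6 * ((q ^ 2 - 1) * (q ^ 3 - 1) * (q ^ 4 - 1)) := by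
  have h := card_sl_mul (F := F) hF 4 (by norm_num)
  have hq : 2 ≤ q := hF ▸ Fintype.one_lt_card
  rw [Fin.prod_univ_four] at h
  simp only [Fin.val_zero, Fin.val_one, Fin.val_two, show ((3 : Fin 4) : ℕ) = 3 from rfl, pow_zero, pow_one] at h
  rw [show q ^ 4 - q = q * (q ^ 3 - 1) by rw [Nat.mul_sub, mul_one, ← pow_succ'],
    show q ^ 4 - q ^ 2 = q ^ 2 * (q ^ 2 - 1) by rw [Nat.mul_sub, mul_one, ← pow_add],
    show q ^ 4 - q ^ 3 = q ^ 3 * (q - 1) by rw [Nat.mul_sub, mul_one, ← pow_succ]] at h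
  refine Nat.eq_of_mul_eq_mul_left (show 0 < q - 1 by omega) ?_
  rw [h]
  ring

/-- `PΩ⁺₆(q) ≅ PSL₄(q)`. -/
theorem pomega_six [Fintype F] :
    Nonempty (Cfsg.POmega F (Cfsg.quadFormPlus 3 F) ≃* ProjectiveSpecialLinearGroup (Fin 4) F) := by
  classical
  have hp : commutator (SpecialLinearGroup (Fin 4) F) = ⊤ := sl_perfect (by simp)
  refine pomega_iso kleinHom (mem_omega_of_perfect hp _) ker_kleinHom_le (center_quot_perfect hp) ?_
  have h := card_omega_mul (Qf := Cfsg.quadFormPlus 3 F) (plusForm F 3) (plusForm_apply 3)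
  have hQ := plusForm_nondeg (F := F) 3
  have hn : Module.finrank F (Fin 3 ⊕ Fin 3 → F) = 6 := by simp [Module.finrank_pi]
  rw [card_orth_plus rfl 2, Finset.prod_range_succ, Finset.prod_range_one] at h
  have hk := card_sqrt_one (F := F)
  rw [← card_ker_kleinHom] at hk
  rw [card_sl_four rfl]
  set q := Fintype.card F
  have hX : 2 * q ^ ((2 + 1) * 2) * (q ^ (2 + 1) - 1) * ((q ^ (2 * (0 + 1)) - 1) * (q ^ (2 * (1 + 1)) - 1)) =
      2 * (q ^ 6 * ((q ^ 2 - 1) * (q ^ 3 - 1) * (q ^ 4 - 1))) := by ring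
  rw [hX] at h
  generalize q ^ 6 * ((q ^ 2 - 1) * (q ^ 3 - 1) * (q ^ 4 - 1)) = X at h ⊢
  by_cases h2 : (2 : F) = 0
  · haveI : CharP F 2 := CharTwo.of_one_ne_zero_of_two_eq_zero one_ne_zero h2
    rw [index_commutator_two hQ (Or.inr (by omega)) (by omega)] at h
    rw [if_pos h2] at hk
    rw [show Nat.card (kleinHom (F := F)).ker = 1 by omega]
    omega
  · rw [index_commutator_odd hQ h2 (by omega)] at h
    rw [if_neg h2] at hk
    rw [show Nat.card (kleinHom (F := F)).ker = 2 by omega]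
    omega

end CfsgLib.Classical.LowRank
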