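import Cfsg.Agent.Lib.Classical.LowRank.Six
import Cfsg.Agent.Lib.Classical.LowRank.FourMinus
import Cfsg.Agent.Lib.Classical.HermMatrixSimple
import Cfsg.Agent.Lib.Classical.HermGen

/-!
# The twisted Klein correspondence: `PΩ⁻₆(q) ≅ PSU₄(q)`
-/

set_option autoImplicit false
set_option linter.unusedSectionVars false
set_option linter.unusedSimpArgs false
set_option backward.isDefEq.respectTransparency false

namespace CfsgLib.Classical.LowRank

open Matrix CfsgLib.Orth CfsgLib.KnownC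

section Klein

variable {K : Type*} [Field K]

theorem klein_mul (A B : Matrix (Fin 4) (Fin 4) K) (v : Fin 3 ⊕ Fin 3 → K) :
    klein (A * B) v = klein A (klein B v) := by
  show altRead (A * B * altMat v * (A * B)ᵀ) = altRead (A * altMat (altRead (B * altMat v * Bᵀ)) * Aᵀ)
  rw [altMat_congr, Matrix.transpose_mul]
  congr 1
  simp only [mul_assoc]

theorem klein_one (v : Fin 3 ⊕ Fin 3 → K) : klein 1 v = v := by
  show altRead ((1 : Matrix (Fin 4) (Fin 4) K) * altMat v * (1 : Matrix (Fin 4) (Fin 4) K)ᵀ) = v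
  rw [Matrix.transpose_one, one_mul, mul_one, altRead_altMat]

set_option maxHeartbeats 2000000 in
theorem klein_adjoint (A : Matrix (Fin 4) (Fin 4) K) (u w : Fin 3 ⊕ Fin 3 → K) :
    ∑ i, klein A u i * w i = ∑ i, u i * klein Aᵀ w i := by
  simp [klein, altRead, altMat, Matrix.mul_apply, Fin.sum_univ_four, Fin.sum_univ_three, Fintype.sum_sum_type,
    Matrix.transpose_apply]
  ring

theorem polar_swap (u w : Fin 3 ⊕ Fin 3 → K) :
    Cfsg.quadFormPlus 3 K (u + w) - Cfsg.quadFormPlus 3 K u - Cfsg.quadFormPlus 3 K w = ∑ i, u i * w i.swap := by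
  simp [Cfsg.quadFormPlus, Fin.sum_univ_three, Fintype.sum_sum_type]
  ring

/-- The dual of `g ∈ SL₄` on the quadric. -/
theorem klein_dual {A : Matrix (Fin 4) (Fin 4) K} (hA : A.det = 1) (w : Fin 3 ⊕ Fin 3 → K) :
    klein Aᵀ (fun i => klein A w i.swap) = fun i => w i.swap := by
  funext j
  have h : ∀ u : Fin 3 ⊕ Fin 3 → K, ∑ i, u i * klein Aᵀ (fun i => klein A w i.swap) i = ∑ i, u i * w i.swap := fun u => by
    rw [← klein_adjoint, ← polar_swap, ← polar_swap, ← map_add]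
    show Cfsg.quadFormPlus 3 K (altRead _) - Cfsg.quadFormPlus 3 K (altRead _) - Cfsg.quadFormPlus 3 K (altRead _) = _
    rw [altRead_quad, altRead_quad, altRead_quad, hA, one_mul, one_mul, one_mul]
  simpa [Pi.single_apply] using h (Pi.single j 1)

theorem altMat_map (σ : K →+* K) (v : Fin 3 ⊕ Fin 3 → K) : altMat (fun i => σ (v i)) = (altMat v).map σ := by
  ext i j
  fin_cases i <;> fin_cases j <;> simp [altMat]

theorem altRead_map (σ : K →+* K) (M : Matrix (Fin 4) (Fin 4) K) : altRead (M.map σ) = fun i => σ (altRead M i) := by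
  funext i
  rcases i with i | i <;> fin_cases i <;> simp [altRead]

theorem klein_map (σ : K →+* K) (A : Matrix (Fin 4) (Fin 4) K) (v : Fin 3 ⊕ Fin 3 → K) :
    klein (A.map σ) (fun i => σ (v i)) = fun i => σ (klein A v i) := by
  show altRead (A.map σ * altMat (fun i => σ (v i)) * (A.map σ)ᵀ) = _
  rw [altMat_map, ← Matrix.transpose_map, ← Matrix.map_mul, ← Matrix.map_mul, altRead_map]
  rfl

end Klein

variable {F K : Type*} [Field F] [Fintype F] [Field K] [Fintype K] [Algebra F K] {a b : F} (D : QuadData F K a b)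

/-- The second basis element of `K`. -/
noncomputable def QuadData.ω : K := D.co.symm ![0, 1]

theorem QuadData.σω_ne : D.σ D.ω ≠ D.ω := fun h => by
  obtain ⟨t, ht⟩ := D.σfix _ h
  have h' := congrArg D.co ht
  rw [D.co_alg, QuadData.ω, LinearEquiv.apply_symm_apply] at h'
  simpa using congrFun h' 1

theorem QuadData.co_zero_of_fixed {x : K} (h : D.σ x = x) : x = algebraMap F K (D.co x 0) := by
  obtain ⟨t, rfl⟩ := D.σfix _ h
  simp [D.co_alg]

theorem QuadData.co_symm (x y : F) : D.co.symm ![x, y] = algebraMap F K x + algebraMap F K y * D.ω := by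
  rw [LinearEquiv.symm_apply_eq, map_add, D.co_alg, ← Algebra.smul_def, map_smul, QuadData.ω,
    LinearEquiv.apply_symm_apply]
  funext i
  fin_cases i <;> simp

/-- The twisted real structure. -/
def QuadData.emb (z : Fin 3 → K) : Fin 3 ⊕ Fin 3 → K := Sum.elim z (fun i => D.σ (z i))

theorem QuadData.emb_swap (z : Fin 3 → K) : (fun i => D.σ (D.emb z i)) = fun i => D.emb z i.swap := by
  funext i
  rcases i with i | i <;> simp [QuadData.emb, D.σσ]

theorem QuadData.quad_emb (z : Fin 3 → K) :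
    Cfsg.quadFormPlus 3 K (D.emb z) = ∑ i, z i * D.σ (z i) := rfl

/-- Unitary matrices preserve the real structure. -/
theorem QuadData.klein_emb {A : Matrix (Fin 4) (Fin 4) K} (hA : A.det = 1) (hu : Aᵀ * A.map D.σ = 1)
    (z : Fin 3 → K) : D.emb (fun i => klein A (D.emb z) (.inl i)) = klein A (D.emb z) := by
  have h1 : (fun i => klein A (D.emb z) i.swap) = klein (A.map D.σ) (fun i => D.emb z i.swap) := by
    rw [← klein_dual hA (D.emb z), ← klein_mul, mul_eq_one_comm.1 hu, klein_one]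
  rw [← D.emb_swap, klein_map] at h1
  funext i
  rcases i with i | i
  · rfl
  · exact (congrFun h1 (Sum.inl i)).symm

/-- Functionals `w ↦ (tr w, tr (σ ω w))`. -/
noncomputable def QuadData.tr2 : K →ₗ[F] (Fin 2 → F) where
  toFun w := ![D.co (w + D.σ w) 0, D.co (D.σ D.ω * w + D.ω * D.σ w) 0]
  map_add' u v := by
    funext i
    fin_cases i <;> simp [map_add, mul_add] <;> ring
  map_smul' r v := by
    have e : ∀ x : K, D.σ (r • x) = r • D.σ x := fun x => by rw [Algebra.smul_def, map_mul, D.σF, ← Algebra.smul_def]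
    funext i
    fin_cases i <;> simp [e, ← smul_add, map_smul]

theorem QuadData.tr2_injective : Function.Injective D.tr2 := by
  rw [injective_iff_map_eq_zero]
  intro w hw
  have h0 := congrFun hw 0
  have h1 := congrFun hw 1
  simp [QuadData.tr2] at h0 h1
  have f0 : w + D.σ w = 0 := by
    rw [D.co_zero_of_fixed (x := w + D.σ w) (by rw [map_add, D.σσ, add_comm]), map_add]
    simp [h0]
  have f1 : D.σ D.ω * w + D.ω * D.σ w = 0 := by
    rw [D.co_zero_of_fixed (x := D.σ D.ω * w + D.ω * D.σ w) (by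
      rw [map_add, map_mul, map_mul, D.σσ, D.σσ, add_comm]), map_add]
    simp [h1]
  exact (mul_eq_zero.1 (show (D.σ D.ω - D.ω) * w = 0 by linear_combination f1 - D.ω * f0)).resolve_left
    (sub_ne_zero.2 D.σω_ne)

/-- Coordinates for the Hermitian space. -/
theorem QuadData.exists_coord (hab : ∀ z₁ z₂ : F, z₁ ^ 2 + a * z₁ * z₂ + b * z₂ ^ 2 = 0 → z₁ = 0 ∧ z₂ = 0)
    (hdim : Module.finrank F K = 2) :
    ∃ Φ : ((Fin 2 ⊕ Fin 2) ⊕ Fin 2 → F) ≃ₗ[F] (Fin 3 → K),
      ∀ v, ∑ i, Φ v i * D.σ (Φ v i) = algebraMap F K (Cfsg.quadFormMinus 2 F a b v) := by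
  haveI : FiniteDimensional F K := Module.finite_of_finrank_eq_succ hdim
  obtain ⟨p, hp⟩ := exists_value_top (minusForm_nondeg (F := F) 0 a b hab)
    (show 2 ≤ Module.finrank F ((Fin 0 ⊕ Fin 0) ⊕ Fin 2 → F) by simp [Module.finrank_pi]) (-1)
  rw [← minusForm_apply] at hp
  simp [Cfsg.quadFormMinus] at hp
  set lam := D.co.symm ![p (.inr 0), p (.inr 1)] with hlam
  have hN : lam * D.σ lam = -1 := by
    rw [D.norm, hlam, LinearEquiv.apply_symm_apply]
    simp [hp]
  have hω0 : D.σ D.ω ≠ 0 := fun h => D.σω_ne (by rw [h, ← D.σσ D.ω, h, map_zero])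
  set lam' := lam * (D.ω / D.σ D.ω) with hlam'
  have hN' : lam' * D.σ lam' = -1 := by
    rw [hlam', map_mul, map_div₀, D.σσ, show lam * (D.ω / D.σ D.ω) * (D.σ lam * (D.σ D.ω / D.ω)) =
      lam * D.σ lam * ((D.ω / D.σ D.ω) * (D.σ D.ω / D.ω)) by ring, hN, div_mul_div_cancel₀ hω0,
      div_self (fun h => hω0 (by rw [h, map_zero])), mul_one]
  have hne : lam' ≠ lam := fun h => by
    have h0 : lam ≠ 0 := fun e => by rw [e, zero_mul] at hN; exact neg_ne_zero.2 one_ne_zero hN.symm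
    rw [hlam', mul_right_eq_self₀, or_iff_left h0, div_eq_one_iff_eq hω0] at h
    exact D.σω_ne h.symm
  set c := 1 + D.σ lam * lam' with hc
  have hc0 : c ≠ 0 := fun h => hne (mul_left_cancel₀ (show D.σ lam ≠ 0 from fun e => by
    rw [e, mul_zero] at hN; exact neg_ne_zero.2 one_ne_zero hN.symm) (by linear_combination h - hN))
  let W : (Fin 2 → F) →ₗ[F] K := (LinearEquiv.ofBijective D.tr2 ⟨D.tr2_injective,
    (LinearMap.injective_iff_surjective_of_finrank_eq_finrank (by rw [hdim, Module.finrank_fin_fun])).1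
      D.tr2_injective⟩).symm.toLinearMap
  let X : ((Fin 2 ⊕ Fin 2) ⊕ Fin 2 → F) →ₗ[F] K := D.co.symm.toLinearMap.comp (LinearMap.funLeft F F (Sum.inl ∘ Sum.inl))
  let Y : ((Fin 2 ⊕ Fin 2) ⊕ Fin 2 → F) →ₗ[F] K :=
    (LinearMap.mulLeft F c⁻¹).comp (W.comp (LinearMap.funLeft F F (Sum.inl ∘ Sum.inr)))
  let Z : ((Fin 2 ⊕ Fin 2) ⊕ Fin 2 → F) →ₗ[F] K := D.co.symm.toLinearMap.comp (LinearMap.funLeft F F Sum.inr)
  let Φ : ((Fin 2 ⊕ Fin 2) ⊕ Fin 2 → F) →ₗ[F] (Fin 3 → K) :=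
    LinearMap.pi ![X + Y, (LinearMap.mulLeft F lam).comp X + (LinearMap.mulLeft F lam').comp Y, Z]
  have hinj : Function.Injective Φ := by
    rw [injective_iff_map_eq_zero]
    intro v hv
    have h0 : X v + Y v = 0 := congrFun hv 0
    have h1 : lam * X v + lam' * Y v = 0 := congrFun hv 1
    have h2 : Z v = 0 := congrFun hv 2
    have hY : Y v = 0 := (mul_eq_zero.1 (show (lam' - lam) * Y v = 0 by linear_combination h1 - lam * h0)).resolve_left
      (sub_ne_zero.2 hne)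
    have hX : X v = 0 := by linear_combination h0 - hY
    simp [Y, W, hc0] at hY
    simp [X] at hX
    simp [Z] at h2
    funext i
    rcases i with (i | i) | i
    · exact congrFun hX i
    · exact congrFun hY i
    · exact congrFun h2 i
  refine ⟨LinearEquiv.ofBijective Φ ⟨hinj, (LinearMap.injective_iff_surjective_of_finrank_eq_finrank (by
    simp [hdim, Module.finrank_pi_fintype, Module.finrank_pi])).1 hinj⟩, fun v => ?_⟩
  show ∑ i, Φ v i * D.σ (Φ v i) = _
  have hw : ∀ y, D.tr2 (W y) = y := fun y => by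
    show D.tr2 _ = y
    exact LinearEquiv.apply_symm_apply (LinearEquiv.ofBijective D.tr2 _) y
  set x0 := v (.inl (.inl 0))
  set x1 := v (.inl (.inl 1))
  set w := W (fun i => v (.inl (.inr i))) with hwdef
  have t0 : w + D.σ w = algebraMap F K (v (.inl (.inr 0))) := by
    rw [D.co_zero_of_fixed (x := w + D.σ w) (by rw [map_add, D.σσ, add_comm])]
    exact congrArg _ (congrFun (hw (fun i => v (.inl (.inr i)))) 0)
  have t1 : D.σ D.ω * w + D.ω * D.σ w = algebraMap F K (v (.inl (.inr 1))) := by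
    rw [D.co_zero_of_fixed (x := D.σ D.ω * w + D.ω * D.σ w) (by
      rw [map_add, map_mul, map_mul, D.σσ, D.σσ, add_comm])]
    exact congrArg _ (congrFun (hw (fun i => v (.inl (.inr i)))) 1)
  have hX : X v = algebraMap F K x0 + algebraMap F K x1 * D.ω := by
    rw [← D.co_symm]
    show D.co.symm _ = _
    congr 1
    funext i
    fin_cases i <;> rfl
  have hZ : Z v * D.σ (Z v) =
      algebraMap F K (v (.inr 0) ^ 2 + a * v (.inr 0) * v (.inr 1) + b * v (.inr 1) ^ 2) := by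
    rw [D.norm]
    show algebraMap F K (D.co (D.co.symm _) 0 ^ 2 + a * D.co (D.co.symm _) 0 * D.co (D.co.symm _) 1 +
      b * D.co (D.co.symm _) 1 ^ 2) = _
    rw [LinearEquiv.apply_symm_apply]
    rfl
  have hY : c * Y v = w := by
    show c * (c⁻¹ * w) = w
    rw [mul_inv_cancel_left₀ hc0]
  have hsplit : (X v + Y v) * D.σ (X v + Y v) + (lam * X v + lam' * Y v) * D.σ (lam * X v + lam' * Y v) =
      X v * D.σ (c * Y v) + D.σ (X v) * (c * Y v) := by
    simp only [map_add, map_mul, map_one, hc, D.σσ]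
    linear_combination (X v * D.σ (X v)) * hN + (Y v * D.σ (Y v)) * hN'
  rw [Fin.sum_univ_three]
  show (X v + Y v) * D.σ (X v + Y v) + (lam * X v + lam' * Y v) * D.σ (lam * X v + lam' * Y v) + Z v * D.σ (Z v) = _
  rw [hsplit, hZ, hY, hX, map_add, map_mul, D.σF, D.σF]
  simp only [Cfsg.quadFormMinus, Fin.sum_univ_two, map_add, map_mul, map_pow]
  linear_combination (algebraMap F K x0) * t0 + (algebraMap F K x1) * t1

variable {q : ℕ}

theorem su_unitary (hσ : ∀ x, D.σ x = x ^ q) (g : Cfsg.SU 4 K q) :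
    ((g.1 : Matrix (Fin 4) (Fin 4) K))ᵀ * (g.1 : Matrix (Fin 4) (Fin 4) K).map D.σ = 1 := by
  ext i j
  have h := g.2 (Pi.single i 1) (Pi.single j 1)
  change Cfsg.hermForm 4 K q ((g.1 : Matrix (Fin 4) (Fin 4) K) *ᵥ _) ((g.1 : Matrix (Fin 4) (Fin 4) K) *ᵥ _) = _ at h
  simp [Cfsg.hermForm, Pi.single_apply, ← hσ, apply_ite (f := D.σ)] at h
  rw [Matrix.mul_apply, Matrix.one_apply]
  simp [Matrix.map_apply, h, eq_comm]

/-- `SU₄` on the coordinates. -/
noncomputable def QuadData.act6 (Φ : ((Fin 2 ⊕ Fin 2) ⊕ Fin 2 → F) ≃ₗ[F] (Fin 3 → K))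
    (A : Matrix (Fin 4) (Fin 4) K) :
    ((Fin 2 ⊕ Fin 2) ⊕ Fin 2 → F) →ₗ[F] ((Fin 2 ⊕ Fin 2) ⊕ Fin 2 → F) where
  toFun v := Φ.symm fun i => klein A (D.emb (Φ v)) (.inl i)
  map_add' u v := by
    rw [← map_add Φ.symm]
    congr 1
    funext i
    rw [map_add Φ, show D.emb (Φ u + Φ v) = D.emb (Φ u) + D.emb (Φ v) by
      funext i; rcases i with i | i <;> simp [QuadData.emb], map_add]
    rfl
  map_smul' r v := by
    rw [RingHom.id_apply, ← map_smul Φ.symm]
    congr 1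
    funext i
    rw [map_smul Φ, show D.emb (r • Φ v) = algebraMap F K r • D.emb (Φ v) by
      funext i; rcases i with i | i <;> simp [QuadData.emb, Algebra.smul_def, D.σF], map_smul]
    simp [Algebra.smul_def]

theorem QuadData.emb_act6 (hσ : ∀ x, D.σ x = x ^ q) (Φ : ((Fin 2 ⊕ Fin 2) ⊕ Fin 2 → F) ≃ₗ[F] (Fin 3 → K))
    (g : Cfsg.SU 4 K q) (v : (Fin 2 ⊕ Fin 2) ⊕ Fin 2 → F) :
    D.emb (Φ (D.act6 Φ (g.1 : Matrix (Fin 4) (Fin 4) K) v)) = klein (g.1 : Matrix (Fin 4) (Fin 4) K) (D.emb (Φ v)) := by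
  show D.emb (Φ (Φ.symm _)) = _
  rw [LinearEquiv.apply_symm_apply]
  exact D.klein_emb g.1.2 (su_unitary D hσ g) (Φ v)

/-- `SU₄` inside the isometry group of the minus form. -/
noncomputable def QuadData.hom6 (hσ : ∀ x, D.σ x = x ^ q) (Φ : ((Fin 2 ⊕ Fin 2) ⊕ Fin 2 → F) ≃ₗ[F] (Fin 3 → K))
    (hΦ : ∀ v, ∑ i, Φ v i * D.σ (Φ v i) = algebraMap F K (Cfsg.quadFormMinus 2 F a b v)) :
    Cfsg.SU 4 K q →* ↥(Cfsg.isometryGroup F (Cfsg.quadFormMinus 2 F a b)) :=
  MonoidHom.codRestrict (MonoidHom.toHomUnits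
    { toFun := fun g => LinearMap.toMatrix' (D.act6 Φ (g.1 : Matrix (Fin 4) (Fin 4) K))
      map_one' := by
        rw [← LinearMap.toMatrix'_id]
        congr 1
        refine LinearMap.ext fun v => ?_
        show (Φ.symm fun i => klein (1 : Matrix (Fin 4) (Fin 4) K) (D.emb (Φ v)) (.inl i)) = v
        rw [klein_one]
        exact Φ.symm_apply_apply v
      map_mul' := fun g h => by
        rw [← LinearMap.toMatrix'_comp]
        congr 1
        refine LinearMap.ext fun v => ?_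
        show (Φ.symm fun i => klein ((g.1 : Matrix (Fin 4) (Fin 4) K) * (h.1 : Matrix (Fin 4) (Fin 4) K))
          (D.emb (Φ v)) (.inl i)) = Φ.symm fun i => klein (g.1 : Matrix (Fin 4) (Fin 4) K)
          (D.emb (Φ (D.act6 Φ (h.1 : Matrix (Fin 4) (Fin 4) K) v))) (.inl i)
        rw [D.emb_act6 hσ Φ h v, klein_mul] })
    (Cfsg.isometryGroup F (Cfsg.quadFormMinus 2 F a b))
    fun g => show ∀ u _v, _ from fun u _ => by
      show Cfsg.quadFormMinus 2 F a b (LinearMap.toMatrix' (D.act6 Φ (g.1 : Matrix (Fin 4) (Fin 4) K)) *ᵥ u) =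
        Cfsg.quadFormMinus 2 F a b u
      rw [LinearMap.toMatrix'_mulVec]
      refine (algebraMap F K).injective ?_
      rw [← hΦ, ← hΦ, ← D.quad_emb, ← D.quad_emb, D.emb_act6 hσ Φ g u]
      show Cfsg.quadFormPlus 3 K (altRead _) = _
      rw [altRead_quad, show (g.1 : Matrix (Fin 4) (Fin 4) K).det = 1 from g.1.2, one_mul]

theorem QuadData.mem_ker_hom6_iff (hσ : ∀ x, D.σ x = x ^ q) (Φ : ((Fin 2 ⊕ Fin 2) ⊕ Fin 2 → F) ≃ₗ[F] (Fin 3 → K))
    (hΦ : ∀ v, ∑ i, Φ v i * D.σ (Φ v i) = algebraMap F K (Cfsg.quadFormMinus 2 F a b v)) (g : Cfsg.SU 4 K q) :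
    g ∈ (D.hom6 hσ Φ hΦ).ker ↔ g.1 ∈ (kleinHom (F := K)).ker := by
  constructor
  · intro hg
    have h1 : ∀ z, klein (g.1 : Matrix (Fin 4) (Fin 4) K) (D.emb z) = D.emb z := by
      intro z
      have h : LinearMap.toMatrix' (D.act6 Φ (g.1 : Matrix (Fin 4) (Fin 4) K)) = 1 :=
        congrArg (fun x : ↥(Cfsg.isometryGroup F (Cfsg.quadFormMinus 2 F a b)) =>
          ((x : GL ((Fin 2 ⊕ Fin 2) ⊕ Fin 2) F) :
            Matrix ((Fin 2 ⊕ Fin 2) ⊕ Fin 2) ((Fin 2 ⊕ Fin 2) ⊕ Fin 2) F)) hg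
      have h' := congrArg (· *ᵥ Φ.symm z) h
      simp only [LinearMap.toMatrix'_mulVec, Matrix.one_mulVec] at h'
      have h'' := D.emb_act6 hσ Φ g (Φ.symm z)
      rw [h', LinearEquiv.apply_symm_apply] at h''
      exact h''.symm
    refine Subtype.ext (Units.ext ?_)
    show LinearMap.toMatrix' (klein (g.1 : Matrix (Fin 4) (Fin 4) K)) = 1
    rw [← LinearMap.toMatrix'_id]
    congr 1
    refine LinearMap.ext fun w => ?_
    have hd : D.ω - D.σ D.ω ≠ 0 := sub_ne_zero.2 (Ne.symm D.σω_ne)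
    let z₂ : Fin 3 → K := fun i => (w (.inl i) - D.σ (w (.inr i))) / (D.ω - D.σ D.ω)
    let z₁ : Fin 3 → K := fun i => w (.inl i) - D.ω * z₂ i
    have hw : w = D.emb z₁ + D.ω • D.emb z₂ := by
      funext i
      rcases i with i | i
      · simp [QuadData.emb, z₁]
      · simp only [QuadData.emb, z₁, z₂, Pi.add_apply, Pi.smul_apply, Sum.elim_inr, smul_eq_mul, map_sub, map_mul,
          map_div₀, D.σσ]
        have hd' : D.σ D.ω - D.ω ≠ 0 := sub_ne_zero.2 D.σω_ne
        field_simp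
        ring
    conv_lhs => rw [hw, map_add, map_smul, h1, h1]
    exact hw.symm
  · intro hg
    obtain ⟨c, hc, hgc⟩ := (mem_ker_kleinHom_iff g.1).1 hg
    refine Subtype.ext (Units.ext ?_)
    show LinearMap.toMatrix' (D.act6 Φ (g.1 : Matrix (Fin 4) (Fin 4) K)) = 1
    rw [← LinearMap.toMatrix'_id]
    congr 1
    refine LinearMap.ext fun v => ?_
    have h : LinearMap.toMatrix' (klein (g.1 : Matrix (Fin 4) (Fin 4) K)) = 1 :=
      congrArg (fun x : ↥(Cfsg.isometryGroup K (Cfsg.quadFormPlus 3 K)) =>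
        ((x : GL (Fin 3 ⊕ Fin 3) K) : Matrix (Fin 3 ⊕ Fin 3) (Fin 3 ⊕ Fin 3) K)) hg
    have h' := congrArg (· *ᵥ D.emb (Φ v)) h
    simp only [LinearMap.toMatrix'_mulVec, Matrix.one_mulVec] at h'
    show (Φ.symm fun i => klein (g.1 : Matrix (Fin 4) (Fin 4) K) (D.emb (Φ v)) (.inl i)) = v
    rw [h']
    exact Φ.symm_apply_apply v

/-- `PΩ⁻₆(q) ≅ PSU₄(q)`. -/
theorem pomega_six_minus (hF : Fintype.card F = q) (hK : Fintype.card K = q ^ 2)
    (hab : ∀ z₁ z₂ : F, z₁ ^ 2 + a * z₁ * z₂ + b * z₂ ^ 2 = 0 → z₁ = 0 ∧ z₂ = 0) :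
    Nonempty (Cfsg.POmega F (Cfsg.quadFormMinus 2 F a b) ≃* Cfsg.PSU 4 K q) := by
  classical
  obtain ⟨D, hσ⟩ := exists_quadData_frob (K := K) hF hK a b hab
  obtain ⟨Φ, hΦ⟩ := D.exists_coord hab (FieldExt.finrank_eq_two hF hK)
  obtain ⟨s, hs, hc⟩ := exists_frob hK
  have hp : commutator (Cfsg.SU 4 K q) = ⊤ := by
    have h := (stdHerm_isHermitian hc 4).sIsom_perfect (stdHerm_sepRight (σ := s) 4)
      (Or.inr (by rw [Module.finrank_fin_fun]))
    have h2 := congrArg (Subgroup.map (suEquiv (n := 4) hs).symm.toMonoidHom) h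
    rw [map_commutator_eq, Subgroup.map_top_of_surjective _ (suEquiv (n := 4) hs).symm.surjective,
      MonoidHom.range_eq_top.2 (suEquiv (n := 4) hs).symm.surjective] at h2
    exact h2
  refine pomega_iso (D.hom6 hσ Φ hΦ) (mem_omega_of_perfect hp _) (fun g hg => ?_) (center_quot_perfect hp) ?_
  · have hz := ker_kleinHom_le ((D.mem_ker_hom6_iff hσ Φ hΦ g).1 hg)
    rw [Subgroup.mem_center_iff] at hz ⊢
    exact fun x => Subtype.ext (hz x.1)
  have hk : Nat.card (D.hom6 hσ Φ hΦ).ker = Nat.card {c : K // c ^ 2 = 1} := by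
    rw [← card_ker_kleinHom]
    refine Nat.card_congr (Equiv.ofBijective
      (fun x : (D.hom6 hσ Φ hΦ).ker => (⟨x.1.1, (D.mem_ker_hom6_iff hσ Φ hΦ x.1).1 x.2⟩ : (kleinHom (F := K)).ker))
      ⟨fun x y h => Subtype.ext (Subtype.ext (congrArg Subtype.val h :)), fun y => ?_⟩)
    obtain ⟨c, hc, hy⟩ := (mem_ker_kleinHom_iff y.1).1 y.2
    have hcc : c * c ^ q = 1 := by
      rw [← hσ]
      rcases sq_eq_one_iff.1 hc with h | h <;> simp [h]
    have hmem : y.1 ∈ Cfsg.SU 4 K q := by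
      intro u v
      show Cfsg.hermForm 4 K q ((y.1 : Matrix (Fin 4) (Fin 4) K) *ᵥ u) ((y.1 : Matrix (Fin 4) (Fin 4) K) *ᵥ v) = _
      rw [hy, Matrix.smul_mulVec, Matrix.smul_mulVec, Matrix.one_mulVec, Matrix.one_mulVec, Cfsg.hermForm,
        Cfsg.hermForm]
      refine Finset.sum_congr rfl fun i _ => ?_
      simp only [Pi.smul_apply, smul_eq_mul]
      linear_combination (u i * v i ^ q) * hcc
    exact ⟨⟨⟨y.1, hmem⟩, (D.mem_ker_hom6_iff hσ Φ hΦ ⟨y.1, hmem⟩).2 y.2⟩, Subtype.ext rfl⟩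
  have hsu : Nat.card (Cfsg.SU 4 K q) = q ^ 6 * ((q ^ 2 - 1) * (q ^ 3 + 1) * (q ^ 4 - 1)) := by
    have h := card_SU_mul (n := 4) hK (by norm_num)
    rw [card_GU hK 4] at h
    refine Nat.eq_of_mul_eq_mul_left (Nat.succ_pos q) (h.trans ?_)
    simp [Finset.prod_range_succ, Nat.even_iff]
    ring
  rw [hk, hsu]
  have h := card_omega_mul (Qf := Cfsg.quadFormMinus 2 F a b) (minusForm F 2 a b) (minusForm_apply 2 a b)
  have hQ := minusForm_nondeg (F := F) 2 a b hab
  have hn : Module.finrank F ((Fin 2 ⊕ Fin 2) ⊕ Fin 2 → F) = 6 := by simp [Module.finrank_pi]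
  rw [card_orth_minus hF a b hab 2, Finset.prod_range_succ, Finset.prod_range_one] at h
  have hX : 2 * q ^ ((2 + 1) * 2) * (q ^ (2 + 1) + 1) * ((q ^ (2 * (0 + 1)) - 1) * (q ^ (2 * (1 + 1)) - 1)) =
      2 * (q ^ 6 * ((q ^ 2 - 1) * (q ^ 3 + 1) * (q ^ 4 - 1))) := by ring
  rw [hX] at h
  generalize q ^ 6 * ((q ^ 2 - 1) * (q ^ 3 + 1) * (q ^ 4 - 1)) = X at h ⊢
  rcases card_sq_one (F := K) with ⟨h2, hk2⟩ | ⟨h2, hk2⟩
  · have h2' : (2 : F) ≠ 0 := fun h => h2 (by rw [← map_ofNat (algebraMap F K) 2, h, map_zero])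
    rw [index_commutator_odd hQ h2' (by omega)] at h
    rw [hk2]
    omega
  · have h2' : (2 : F) = 0 := (algebraMap F K).injective (by rw [map_ofNat, map_zero, h2])
    haveI : CharP F 2 := CharTwo.of_one_ne_zero_of_two_eq_zero one_ne_zero h2'
    rw [index_commutator_two hQ (good_of (Or.inr (by omega))) (by omega)] at h
    rw [hk2]
    omega

end CfsgLib.Classical.LowRank
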