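import Cfsg.Agent.Lib.Classical.LowRank.SLTwo
import Cfsg.Agent.Lib.Classical.OrthCount
import Cfsg.Agent.Lib.Classical.OrthApps
import Cfsg.Agent.Lib.KnownC.OrthTools

/-!
# `PΩ₃(q) ≅ PSL₂(q)`
-/

set_option autoImplicit false
set_option linter.unusedSectionVars false
set_option linter.unusedSimpArgs false
set_option backward.isDefEq.respectTransparency false

namespace CfsgLib.Classical.LowRank

open Matrix CfsgLib.Orth
open scoped MatrixGroups commutatorElement

variable {F : Type*} [Field F]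

/-- Matrices of trace zero by coordinates. -/
def mat3 (v : Unit ⊕ (Fin 1 ⊕ Fin 1) → F) : Matrix (Fin 2) (Fin 2) F :=
  !![v (.inl ()), v (.inr (.inl 0)); v (.inr (.inr 0)), -v (.inl ())]

/-- Coordinates of a matrix of trace zero. -/
def read3 (M : Matrix (Fin 2) (Fin 2) F) : Unit ⊕ (Fin 1 ⊕ Fin 1) → F :=
  Sum.elim (fun _ => M 0 0) (Sum.elim (fun _ => M 0 1) (fun _ => M 1 0))

theorem read3_mat3 (v : Unit ⊕ (Fin 1 ⊕ Fin 1) → F) : read3 (mat3 v) = v := by
  funext i
  rcases i with ⟨⟩ | i | i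
  · simp [read3, mat3]
  all_goals fin_cases i; simp [read3, mat3]

theorem mat3_read3 {M : Matrix (Fin 2) (Fin 2) F} (h : M.trace = 0) : mat3 (read3 M) = M := by
  rw [Matrix.trace_fin_two] at h
  have h' : M 1 1 = -M 0 0 := by linear_combination h
  ext i j
  fin_cases i <;> fin_cases j <;> simp [read3, mat3, h']

theorem trace_conj3 (g : GL (Fin 2) F) (v : Unit ⊕ (Fin 1 ⊕ Fin 1) → F) :
    ((g : Matrix (Fin 2) (Fin 2) F) * mat3 v * ((g⁻¹ : GL (Fin 2) F) : Matrix (Fin 2) (Fin 2) F)).trace = 0 := by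
  rw [Matrix.trace_mul_cycle, ← Units.val_mul, inv_mul_cancel, Units.val_one, one_mul, Matrix.trace_fin_two]
  simp [mat3]

theorem quad_mat3 (v : Unit ⊕ (Fin 1 ⊕ Fin 1) → F) : Cfsg.quadFormOdd 1 F v = -(mat3 v).det := by
  simp [Cfsg.quadFormOdd, mat3, Matrix.det_fin_two]
  ring

/-- The adjoint action. -/
noncomputable def adj3 (g : GL (Fin 2) F) :
    (Unit ⊕ (Fin 1 ⊕ Fin 1) → F) →ₗ[F] (Unit ⊕ (Fin 1 ⊕ Fin 1) → F) where
  toFun v := read3 ((g : Matrix (Fin 2) (Fin 2) F) * mat3 v * ((g⁻¹ : GL (Fin 2) F) : Matrix (Fin 2) (Fin 2) F))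
  map_add' u v := by
    rw [show mat3 (u + v) = mat3 u + mat3 v by
      ext i j; fin_cases i <;> fin_cases j <;> simp [mat3, add_comm], mul_add, add_mul]
    funext i
    rcases i with ⟨⟩ | i | i <;> simp [read3]
  map_smul' c v := by
    rw [show mat3 (c • v) = c • mat3 v by ext i j; fin_cases i <;> fin_cases j <;> simp [mat3],
      Matrix.mul_smul, Matrix.smul_mul]
    funext i
    rcases i with ⟨⟩ | i | i <;> simp [read3]

/-- `GL₂` in the three-dimensional isometry group. -/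
noncomputable def adj3Hom : GL (Fin 2) F →* ↥(Cfsg.isometryGroup F (Cfsg.quadFormOdd 1 F)) :=
  MonoidHom.codRestrict (MonoidHom.toHomUnits
    { toFun := fun g => LinearMap.toMatrix' (adj3 g)
      map_one' := by
        rw [← LinearMap.toMatrix'_id]
        congr 1
        refine LinearMap.ext fun v => ?_
        show read3 (((1 : GL (Fin 2) F) : Matrix (Fin 2) (Fin 2) F) * mat3 v *
          (((1 : GL (Fin 2) F)⁻¹ : GL (Fin 2) F) : Matrix (Fin 2) (Fin 2) F)) = v
        rw [inv_one, Units.val_one, one_mul, mul_one, read3_mat3]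
      map_mul' := fun g h => by
        rw [← LinearMap.toMatrix'_comp]
        congr 1
        refine LinearMap.ext fun v => ?_
        show read3 _ = read3 (_ * mat3 (read3 _) * _)
        rw [mat3_read3 (trace_conj3 h v), Units.val_mul, _root_.mul_inv_rev, Units.val_mul]
        simp only [mul_assoc] })
    (Cfsg.isometryGroup F (Cfsg.quadFormOdd 1 F))
    fun g => show ∀ u _v, _ from fun u _ => by
      show Cfsg.quadFormOdd 1 F (LinearMap.toMatrix' (adj3 g) *ᵥ u) = _
      rw [LinearMap.toMatrix'_mulVec]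
      show Cfsg.quadFormOdd 1 F (read3 _) = Cfsg.quadFormOdd 1 F u
      rw [quad_mat3, quad_mat3, mat3_read3 (trace_conj3 g u), Matrix.det_mul, Matrix.det_mul, mul_right_comm,
        ← Matrix.det_mul, ← Units.val_mul, mul_inv_cancel, Units.val_one, Matrix.det_one, one_mul]

/-- `SL₂` in the three-dimensional isometry group. -/
noncomputable def adj3SL : SL(2, F) →* ↥(Cfsg.isometryGroup F (Cfsg.quadFormOdd 1 F)) :=
  adj3Hom.comp SpecialLinearGroup.toGL

theorem adj3SL_mem [Fintype F] (hq : 3 ≤ Fintype.card F) (s : SL(2, F)) :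
    adj3SL s ∈ Cfsg.Omega F (Cfsg.quadFormOdd 1 F) := by
  obtain ⟨a, ha0, ha1⟩ := exists_not_zero_one hq
  have h : (Cfsg.Omega F (Cfsg.quadFormOdd 1 F)).comap adj3SL = ⊤ := sl_subgroup_eq_top _ fun i j hij c => by
    obtain ⟨d, t, hdt⟩ := transvection_eq_comm ha0 ha1 hij c
    show adj3Hom ((SpecialLinearGroup.toGL : SL(2, F) →* GL (Fin 2) F) (SpecialLinearGroup.transvection hij c)) ∈ Cfsg.Omega F (Cfsg.quadFormOdd 1 F)
    rw [← hdt, map_commutatorElement]
    exact Subgroup.commutator_mem_commutator (Subgroup.mem_top _) (Subgroup.mem_top _)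
  exact (h ▸ Subgroup.mem_top s : s ∈ (Cfsg.Omega F (Cfsg.quadFormOdd 1 F)).comap adj3SL)

theorem mem_ker_adj3SL_iff (g : SL(2, F)) :
    g ∈ (adj3SL (F := F)).ker ↔ ∃ c : F, c ^ 2 = 1 ∧ (g : Matrix (Fin 2) (Fin 2) F) = c • 1 := by
  set G : GL (Fin 2) F := SpecialLinearGroup.toGL g
  have hG : (G : Matrix (Fin 2) (Fin 2) F) = (g : Matrix (Fin 2) (Fin 2) F) := rfl
  constructor
  · intro hg
    have hv : ∀ v, (g : Matrix (Fin 2) (Fin 2) F) * mat3 v = mat3 v * (g : Matrix (Fin 2) (Fin 2) F) := by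
      intro v
      have h1 : LinearMap.toMatrix' (adj3 G) = 1 :=
        congrArg (fun x : ↥(Cfsg.isometryGroup F (Cfsg.quadFormOdd 1 F)) =>
          ((x : GL (Unit ⊕ (Fin 1 ⊕ Fin 1)) F) :
            Matrix (Unit ⊕ (Fin 1 ⊕ Fin 1)) (Unit ⊕ (Fin 1 ⊕ Fin 1)) F)) hg
      have h2 := congrArg (· *ᵥ v) h1
      simp only [LinearMap.toMatrix'_mulVec, Matrix.one_mulVec] at h2
      have h3 := congrArg mat3 h2
      change mat3 (read3 _) = _ at h3
      rw [mat3_read3 (trace_conj3 G v)] at h3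
      have h4 := congrArg (· * (G : Matrix (Fin 2) (Fin 2) F)) h3
      simp only [mul_assoc] at h4
      rw [← Units.val_mul, inv_mul_cancel, Units.val_one, mul_one, hG] at h4
      exact h4
    have e1 := hv (Sum.elim (fun _ => 0) (Sum.elim (fun _ => 1) (fun _ => 0)))
    have e2 := hv (Sum.elim (fun _ => 0) (Sum.elim (fun _ => 0) (fun _ => 1)))
    have hc := scalar_of_commute (A := (g : Matrix (Fin 2) (Fin 2) F)) (by simpa [mat3] using e1)
      (by simpa [mat3] using e2)
    refine ⟨_, ?_, hc⟩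
    have hd : ((g : Matrix (Fin 2) (Fin 2) F)).det = 1 := g.2
    rw [hc, Matrix.det_smul, Matrix.det_one, Fintype.card_fin, mul_one] at hd
    exact hd
  · rintro ⟨c, hc, hg⟩
    refine Subtype.ext (Units.ext ?_)
    show LinearMap.toMatrix' (adj3 G) = 1
    rw [← LinearMap.toMatrix'_id]
    congr 1
    refine LinearMap.ext fun v => ?_
    show read3 _ = v
    conv_rhs => rw [← read3_mat3 v]
    congr 1
    rw [show (G : Matrix (Fin 2) (Fin 2) F) * mat3 v = mat3 v * (G : Matrix (Fin 2) (Fin 2) F) by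
      rw [hG, hg, Matrix.smul_mul, one_mul, Matrix.mul_smul, mul_one], mul_assoc, ← Units.val_mul,
      mul_inv_cancel, Units.val_one, mul_one]

/-- `PΩ₃(q) ≅ PSL₂(q)` for odd `q`. -/
theorem pomega_three [Fintype F] (h2 : (2 : F) ≠ 0) :
    Nonempty (Cfsg.POmega F (Cfsg.quadFormOdd 1 F) ≃* ProjectiveSpecialLinearGroup (Fin 2) F) := by
  classical
  have hq : 3 ≤ Fintype.card F := by
    have h : ({0, 1, -1} : Finset F).card = 3 := by
      rw [Finset.card_insert_of_notMem, Finset.card_pair]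
      · exact fun h => h2 (by linear_combination h)
      · simp
    calc 3 = ({0, 1, -1} : Finset F).card := h.symm
      _ ≤ Fintype.card F := Finset.card_le_univ _
  refine pomega_iso adj3SL (adj3SL_mem hq) (fun g hg => ?_) psl2_center ?_
  · obtain ⟨c, -, hc⟩ := (mem_ker_adj3SL_iff g).1 hg
    exact sl2_scalar_mem_center hc
  have hk : Nat.card (adj3SL (F := F)).ker = 2 := by
    have he : Nat.card (adj3SL (F := F)).ker = Nat.card {c : F // c ^ 2 = 1} := by
      refine (Nat.card_congr (Equiv.ofBijective (fun c : {c : F // c ^ 2 = 1} =>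
        (⟨⟨(c : F) • 1, by rw [Matrix.det_smul, Matrix.det_one, Fintype.card_fin, mul_one]; exact c.2⟩,
          (mem_ker_adj3SL_iff _).2 ⟨c.1, c.2, rfl⟩⟩ : (adj3SL (F := F)).ker)) ⟨?_, ?_⟩)).symm
      · intro a b h
        have := congrFun (congrFun (congrArg (fun x : (adj3SL (F := F)).ker =>
          ((x : SL(2, F)) : Matrix (Fin 2) (Fin 2) F)) h) 0) 0
        simp at this
        exact Subtype.ext this
      · rintro ⟨g, hg⟩
        obtain ⟨c, hc, hgc⟩ := (mem_ker_adj3SL_iff g).1 hg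
        exact ⟨⟨c, hc⟩, Subtype.ext (Subtype.ext hgc.symm)⟩
    rcases card_sq_one (F := F) with ⟨-, h⟩ | ⟨h, -⟩
    · rw [he, h]
    · exact absurd h h2
  have h := card_omega_mul (Qf := Cfsg.quadFormOdd 1 F) (oddForm F 1) (oddForm_apply 1)
  rw [card_orth_odd rfl h2 1,
    index_commutator_odd (oddForm_nondeg 1 h2) h2 (by simp [Module.finrank_pi])] at h
  simp only [Finset.prod_range_one, one_pow, pow_one, Nat.zero_add, mul_one] at h
  rw [hk, card_sl2 rfl]
  rw [mul_assoc 2] at h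
  generalize Fintype.card F * (Fintype.card F ^ 2 - 1) = X at h ⊢
  omega

end CfsgLib.Classical.LowRank
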